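import Groth.Agent.TwoTop.Descend
import Mathlib.CategoryTheory.Abelian.Injective.Ext

/-!
# Vanishing of the higher direct images of `ε`
-/

set_option autoImplicit false

universe u

open CategoryTheory CategoryTheory.Limits Opposite HomologicalComplex

namespace Groth.Agent.TwoTop

variable {C : Type u} [SmallCategory C]

/-- Exactness of a complex of sheaves, tested on sections. -/
lemma exact_of_local {J : GrothendieckTopology C} (S : ShortComplex (Sheaf J AddCommGrpCat.{u}))
    (h : ∀ (U : C) (x : S.X₂.obj.obj (op U)), S.g.hom.app (op U) x = 0 →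
      ∃ R ∈ J U, ∀ ⦃V : C⦄ (g : V ⟶ U), R g → ∃ y, S.f.hom.app (op V) y = rs S.X₂ g x) : S.Exact := by
  rw [S.exact_iff_epi_toCycles]
  refine (Sheaf.isLocallySurjective_iff_epi' (φ := S.toCycles)).mp ⟨fun {U} z => ?_⟩
  obtain ⟨R, hR, hR'⟩ := h U (S.iCycles.hom.app (op U) z)
    (ConcreteCategory.congr_hom (congrArg (fun φ => φ.hom.app (op U)) S.iCycles_g) z)
  refine J.superset_covering (fun V g hg => ?_) hR
  obtain ⟨y, hy⟩ := hR' g hg
  refine ⟨y, app_injective S.iCycles V ?_⟩
  exact (ConcreteCategory.congr_hom (congrArg (fun φ => φ.hom.app (op V)) S.toCycles_i) y).trans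
    (hy.trans (rs_app S.iCycles g z))

lemma mono_of_app_injective {J : GrothendieckTopology C} {P Q : Sheaf J AddCommGrpCat.{u}} (φ : P ⟶ Q)
    (h : ∀ U : C, Function.Injective (φ.hom.app (op U))) : Mono φ := by
  have : ∀ U, Mono (φ.hom.app U) := fun U => (AddCommGrpCat.mono_iff_injective _).mpr (h U.unop)
  have : Mono φ.hom := NatTrans.mono_of_mono_app _
  exact (sheafToPresheaf J AddCommGrpCat.{u}).mono_of_mono_map this

variable {J J' : GrothendieckTopology C}

/-- Restriction preserves exactness, also along arrows without base changes. -/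
lemma exactAt_resCx' {X Y : C} (f : X ⟶ Y) (IY : CochainComplex (Sheaf (J.over Y) AddCommGrpCat.{u}) ℕ)
    (hI : ∀ j, IY.ExactAt (j + 1)) (j : ℕ) : (resCx f IY).ExactAt (j + 1) := by
  have := res_preservesFiniteLimits J f
  have : PreservesColimitsOfSize.{0, 0} (res J f) :=
    ((Over.map f).sheafAdjunctionCocontinuous AddCommGrpCat.{u} (J.over X) (J.over Y)).leftAdjoint_preservesColimits
  have : PreservesFiniteColimits (res J f) := PreservesColimitsOfSize.preservesFiniteColimits _
  exact (hI j).map (res J f)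

/-- Exactness data transported to the base along restriction. -/
lemma exSieve_map_mem {X Y : C} (f : X ⟶ Y) (IY : CochainComplex (Sheaf (J.over Y) AddCommGrpCat.{u}) ℕ)
    (n : ℕ) {U : Over X} (x : (IY.X (n + 1)).obj.obj (op ((Over.map f).obj U)))
    (h : exSieve (resCx f IY) n (U := U) x ∈ J'.over X U) :
    exSieve IY n x ∈ J'.over Y ((Over.map f).obj U) := by
  refine (J'.over Y).superset_covering ?_
    ((GrothendieckTopology.over_map_coverPreserving J' f).cover_preserve h)
  rintro W k ⟨Z, g, k', hg, rfl⟩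
  exact (exSieve IY n x).downward_closed (Z := W) (show exSieve IY n x ((Over.map f).map g) from hg) k'

variable {T : Setting J J'} {n : ℕ} (hV : T.V n)

include hV in
/-- Descent along a covering in `P`. -/
lemma exSieve_mem_of_cover {X Y : C} (f : X ⟶ Y) (hf : T.P f)
    (hcov : Sieve.ofArrows (fun _ : PUnit.{u + 1} => X) (fun _ => f) ∈ J Y)
    (IY : CochainComplex (Sheaf (J.over Y) AddCommGrpCat.{u}) ℕ) [∀ j, Injective (IY.X j)]
    (hI : ∀ j, IY.ExactAt (j + 1)) (hA : T.InA Y (cyc IY 0))
    (s : (IY.X (n + 1)).obj.obj (op (tp Y)))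
    (hT0 : exSieve (resCx f IY) n (U := tp X) (sY IY s ((Over.map f).obj (tp X))) ∈ J'.over X (tp X)) :
    exSieve IY n s ∈ J'.over Y (tp Y) := by
  have : HasPullbacksAlong f := hasPullbacksAlong f hf
  have : ∀ i, Mono ((etaCx f IY).f i) := fun i =>
    mono_of_app_injective _ fun U => unit_app_injective f hcov (IY.X i) U
  have : ∀ i, Injective ((dirCx f (resCx f IY)).X i) := fun i => (dir J f).injective_obj ((resCx f IY).X i)
  exact exSieve_mem_of_mono hV (etaCx f IY) hI hA
    (inA_dirCx_homology hV f hf (resCx f IY) (exactAt_resCx f IY hI) (inA_resCx_cyc₀ f IY hA)) s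
    (exSieve_dirCx_mem hV f hf hcov IY hI hA s hT0)

include hV in
/-- Cocycles are boundaries locally for the coarser topology. -/
lemma exSieve_mem {Y : C} (IY : CochainComplex (Sheaf (J.over Y) AddCommGrpCat.{u}) ℕ)
    [∀ j, Injective (IY.X j)] (hI : ∀ j, IY.ExactAt (j + 1)) (hA : T.InA Y (cyc IY 0))
    (s : (IY.X (n + 1)).obj.obj (op (tp Y)))
    (hs : (IY.d (n + 1) (n + 1 + 1)).hom.app (op (tp Y)) s = 0) :
    exSieve IY n s ∈ J'.over Y (tp Y) := by
  obtain ⟨R, hR, hR'⟩ := exact_local_lift _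
    ((IY.exactAt_iff' n (n + 1) (n + 1 + 1) (by simp) (by simp)).1 (hI n)) (tp Y) s hs
  have hS : exSieve IY n s ∈ J.over Y (tp Y) := (J.over Y).superset_covering (fun V g hg => hR' g hg) hR
  obtain ⟨ι, V, v, hv, hw⟩ := T.h5 Y _ ((J.mem_over_iff _).1 hS)
  refine exSieve_mem_of_local IY n s (J'.overEquiv_symm_mem_over _ _ hv) fun Z g hg => ?_
  rw [Sieve.overEquiv_symm_iff, Sieve.mem_ofArrows_iff] at hg
  obtain ⟨j, a, ha⟩ := hg
  let k : Z ⟶ (Over.map (v j)).obj (tp (V j)) := Over.homMk a (by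
    have h := Over.w g
    dsimp at h ⊢
    rw [Category.comp_id] at h
    rw [Category.id_comp, ← ha, h])
  rw [toTop_unique g (k ≫ toTop _), rs_comp, ← exSieve_pullback]
  refine (J'.over Y).pullback_stable k (exSieve_map_mem (v j) IY n _ ?_)
  -- descend along `w`
  obtain ⟨W, w, hwP, hwJ, κ, Wk, wk, hWk, hkS⟩ := hw j
  refine exSieve_mem_of_cover hV w hwP hwJ (resCx (v j) IY) (exactAt_resCx' (v j) IY hI)
    (inA_resCx_cyc₀ (v j) IY hA) _ ?_
  refine (J'.over W).superset_covering ?_ (J'.overEquiv_symm_mem_over _ _ hWk)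
  intro Z' g' hg'
  rw [Sieve.overEquiv_symm_iff, Sieve.mem_ofArrows_iff] at hg'
  obtain ⟨l, a', ha'⟩ := hg'
  have hl := hkS l
  rw [Sieve.overEquiv_iff] at hl
  let M := (Over.map (v j)).obj ((Over.map w).obj Z')
  have hM : exSieve IY n s (toTop M) := by
    have h := Over.w g'
    dsimp at h
    rw [Category.comp_id] at h
    have := (exSieve IY n s).downward_closed hl (Z := M) (Over.homMk a' (by
      dsimp [M]
      rw [Category.comp_id, ← h, ha']
      simp [Category.assoc]))
    rwa [toTop_unique (toTop M) _]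
  obtain ⟨b, hb⟩ := hM
  refine ⟨b, hb.trans ?_⟩
  let g'' := (Over.map (v j)).map ((Over.map w).map g')
  refine ((congrArg (rs (IY.X (n + 1)) g'') (rs_sY IY s ((Over.map (v j)).map (toTop ((Over.map w).obj (tp W)))))).trans
    (rs_sY IY s g'')).symm

include hV in
/-- The next case of vanishing. -/
lemma isZero_derived_succ {X : C} (F : Sheaf (J.over X) AddCommGrpCat.{u}) (hF : T.InA X F) :
    IsZero (((T.e X).rightDerived (n + 1)).obj F) := by
  let P := injectiveResolution F
  let I : CochainComplex (Sheaf (J.over X) AddCommGrpCat.{u}) ℕ := P.cocomplex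
  have : ∀ j, Injective (I.X j) := fun j => P.injective j
  have hI : ∀ j, I.ExactAt (j + 1) := fun j => P.cocomplex_exactAt_succ j
  have hA : T.InA X (cyc I 0) := inA_of_iso
    (P.isLimitKernelFork.conePointUniqueUpToIso (limit.isLimit (parallelPair (I.d 0 1) 0))) hF
  refine IsZero.of_iso ?_ (P.isoRightDerivedObj (T.e X) (n + 1))
  refine (HomologicalComplex.exactAt_iff_isZero_homology _ _).1 ?_
  rw [HomologicalComplex.exactAt_iff' _ n (n + 1) (n + 1 + 1) (by simp) (by simp)]
  refine exact_of_local _ fun U x hx => ?_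
  let U' : Over X := (Over.map U.hom).obj (tp U.left)
  let i : U' ⟶ U := Over.homMk (𝟙 U.left) (by simp [U'])
  let i' : U ⟶ U' := Over.homMk (𝟙 U.left) (by simp [U'])
  have hi : i' ≫ i = 𝟙 U := by ext; simp [i, i']
  let x' : (I.X (n + 1)).obj.obj (op U') := rs (I.X (n + 1)) i x
  have h := exSieve_map_mem (J' := J') U.hom I n x' (exSieve_mem hV (resCx U.hom I) (exactAt_resCx' _ I hI)
    (inA_resCx_cyc₀ U.hom I hA) x' (by
      show (I.d (n + 1) (n + 1 + 1)).hom.app (op U') x' = 0
      exact (rs_app _ i x).symm.trans ((congrArg _ hx).trans (map_zero _))))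
  have hx' : rs (I.X (n + 1)) i' x' = x :=
    (rs_comp (I.X (n + 1)) i i' x).symm.trans ((congrArg (fun k => rs (I.X (n + 1)) k x) hi).trans
      (ConcreteCategory.congr_hom ((I.X (n + 1)).obj.map_id (op U)) x))
  refine ⟨_, (J'.over X).pullback_stable i' h, fun V g hg => ?_⟩
  rw [exSieve_pullback, hx'] at hg
  exact hg

/-- `Rⁱε_* = 0` on `A_X` for all `i ≥ 1`. -/
theorem Setting.V_all (T : Setting J J') : ∀ n, T.V n
  | 0 => fun _ _ _ i hi => absurd hi (Nat.not_lt_zero i)
  | n + 1 => fun Z F hF i hi => by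
    rcases Nat.lt_succ_iff_lt_or_eq.1 hi with h | rfl
    · exact Setting.V_all T n Z F hF i h
    · exact isZero_derived_succ (Setting.V_all T i) F hF

end Groth.Agent.TwoTop
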