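import Groth.Agent.TriH.RDer
import Mathlib.Algebra.Homology.ShortComplex.Abelian
import Mathlib.CategoryTheory.Abelian.Exact

/-!
# Right derived functors from partial injective resolutions
-/

set_option autoImplicit false

universe v v' u u'

open CategoryTheory CategoryTheory.Limits

namespace Groth.Agent.TwoTop

open Groth.Agent.TriH.RDer

variable {C : Type u} [Category.{v} C] [Abelian C] [EnoughInjectives C] [HasInjectiveResolutions C]
  {D : Type u'} [Category.{v'} D] [Abelian D] (G : C ⥤ D) [G.Additive]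

section SES

variable {S : ShortComplex C} (hS : S.ShortExact)

include hS in
lemma acyclic_middle (k : ℕ) (h₁ : IsZero ((G.rightDerived k).obj S.X₁))
    (h₃ : IsZero ((G.rightDerived k).obj S.X₃)) : IsZero ((G.rightDerived k).obj S.X₂) :=
  ((derivedLES G).exact₂ S hS k).isZero_of_both_zeros (h₁.eq_of_src _ _) (h₃.eq_of_tgt _ _)

include hS in
lemma acyclic_right (k : ℕ) (h₂ : IsZero ((G.rightDerived k).obj S.X₂))
    (h₁ : IsZero ((G.rightDerived (k + 1)).obj S.X₁)) : IsZero ((G.rightDerived k).obj S.X₃) :=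
  ((derivedLES G).exact₃ S hS k (k + 1) rfl).isZero_of_both_zeros (h₂.eq_of_src _ _) (h₁.eq_of_tgt _ _)

include hS in
lemma acyclic_left (k : ℕ) (h₃ : IsZero ((G.rightDerived k).obj S.X₃))
    (h₂ : IsZero ((G.rightDerived (k + 1)).obj S.X₂)) : IsZero ((G.rightDerived (k + 1)).obj S.X₁) :=
  ((derivedLES G).exact₁ S hS k (k + 1) rfl).isZero_of_both_zeros (h₃.eq_of_src _ _) (h₂.eq_of_tgt _ _)

include hS in
/-- Dimension shifting along a sequence with acyclic middle term. -/
lemma nonempty_shift_iso (k : ℕ) (h : IsZero ((G.rightDerived (k + 1)).obj S.X₂))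
    (h' : IsZero ((G.rightDerived (k + 2)).obj S.X₂)) :
    Nonempty ((G.rightDerived (k + 1)).obj S.X₃ ≅ (G.rightDerived (k + 2)).obj S.X₁) := by
  have : Epi ((derivedLES G).δ S hS (k + 1) (k + 2) rfl) :=
    ((derivedLES G).exact₁ S hS (k + 1) (k + 2) rfl).epi_f (h'.eq_of_tgt _ _)
  have : Mono ((derivedLES G).δ S hS (k + 1) (k + 2) rfl) :=
    ((derivedLES G).exact₃ S hS (k + 1) (k + 2) rfl).mono_g (h.eq_of_src _ _)
  exact ⟨@asIso _ _ _ _ ((derivedLES G).δ S hS (k + 1) (k + 2) rfl) (isIso_of_mono_of_epi _)⟩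

variable [PreservesFiniteLimits G]

include hS in
lemma epi_map_g (h : IsZero ((G.rightDerived 1).obj S.X₁)) : Epi (G.map S.g) := by
  have : Epi ((G.rightDerived 0).map S.g) :=
    ((derivedLES G).exact₃ S hS 0 1 rfl).epi_f (h.eq_of_tgt _ _)
  have e : (G.rightDerived 0).map S.g ≫ G.rightDerivedZeroIsoSelf.hom.app S.X₃ =
      G.rightDerivedZeroIsoSelf.hom.app S.X₂ ≫ G.map S.g := G.rightDerivedZeroIsoSelf.hom.naturality S.g
  have : Epi (G.rightDerivedZeroIsoSelf.hom.app S.X₂ ≫ G.map S.g) := by rw [← e]; infer_instance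
  exact epi_of_epi (G.rightDerivedZeroIsoSelf.hom.app S.X₂) _

include hS in
/-- The first derived functor is the cokernel on sections. -/
lemma nonempty_one_iso (h : IsZero ((G.rightDerived 1).obj S.X₂)) :
    Nonempty ((G.rightDerived 1).obj S.X₁ ≅ cokernel (G.map S.g)) := by
  have hepi : Epi ((derivedLES G).δ S hS 0 1 rfl) :=
    ((derivedLES G).exact₁ S hS 0 1 rfl).epi_f (h.eq_of_tgt _ _)
  have hex := (derivedLES G).exact₃ S hS 0 1 rfl
  exact ⟨(hex.gIsCokernel.coconePointUniqueUpToIso (cokernelIsCokernel _)) ≪≫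
    cokernel.mapIso _ _ (G.rightDerivedZeroIsoSelf.app S.X₂) (G.rightDerivedZeroIsoSelf.app S.X₃)
      (G.rightDerivedZeroIsoSelf.hom.naturality S.g)⟩

end SES

section Cx

variable (X : CochainComplex C ℕ)

/-- The cycles of a complex, as kernels. -/
noncomputable abbrev cyc (j : ℕ) : C := kernel (X.d j (j + 1))

/-- The differential, with values in the cycles. -/
noncomputable abbrev toCyc (j : ℕ) : X.X j ⟶ cyc X (j + 1) :=
  kernel.lift _ (X.d j (j + 1)) (X.d_comp_d _ _ _)

/-- The boundaries, as quotients. -/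
noncomputable abbrev bdry (j : ℕ) : C := cokernel (kernel.ι (X.d j (j + 1)))

/-- The sequence `Z → X → B`. -/
noncomputable abbrev seqB (j : ℕ) : ShortComplex C :=
  ShortComplex.mk (kernel.ι (X.d j (j + 1))) (cokernel.π _) (cokernel.condition _)

omit [EnoughInjectives C] [HasInjectiveResolutions C] in
lemma shortExact_seqB (j : ℕ) : (seqB X j).ShortExact where
  exact := ShortComplex.exact_of_g_is_cokernel _ (cokernelIsCokernel _)
  mono_f := inferInstanceAs (Mono (kernel.ι _))
  epi_g := inferInstanceAs (Epi (cokernel.π _))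

/-- The boundaries inside the next term. -/
noncomputable abbrev bdryι (j : ℕ) : bdry X j ⟶ X.X (j + 1) :=
  cokernel.desc _ (X.d j (j + 1)) (kernel.condition _)

omit [EnoughInjectives C] [HasInjectiveResolutions C] in
lemma mono_bdryι (j : ℕ) : Mono (bdryι X j) :=
  inferInstanceAs (Mono (Abelian.factorThruCoimage (X.d j (j + 1))))

/-- The boundaries inside the cycles. -/
noncomputable abbrev bdryToCyc (j : ℕ) : bdry X j ⟶ cyc X (j + 1) :=
  cokernel.desc _ (toCyc X j) (by rw [← cancel_mono (kernel.ι (X.d (j + 1) (j + 1 + 1)))]; simp)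

omit [EnoughInjectives C] [HasInjectiveResolutions C] in
lemma bdryToCyc_ι (j : ℕ) : bdryToCyc X j ≫ kernel.ι _ = bdryι X j := by
  rw [← cancel_epi (cokernel.π (kernel.ι (X.d j (j + 1))))]; simp

omit [EnoughInjectives C] [HasInjectiveResolutions C] in
lemma mono_bdryToCyc (j : ℕ) : Mono (bdryToCyc X j) := by
  have := mono_bdryι X j
  exact mono_of_mono_fac (bdryToCyc_ι X j)

omit [EnoughInjectives C] [HasInjectiveResolutions C] in
lemma epi_toCyc_of_exactAt (j : ℕ) (h : X.ExactAt (j + 1)) : Epi (toCyc X j) :=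
  ((X.exactAt_iff' j (j + 1) (j + 1 + 1) (by simp) (by simp)).1 h).epi_kernelLift

/-- The sequence `Z → X → Z'`. -/
noncomputable abbrev seqZ (j : ℕ) : ShortComplex C :=
  ShortComplex.mk (kernel.ι (X.d j (j + 1))) (toCyc X j)
    (by rw [← cancel_mono (kernel.ι (X.d (j + 1) (j + 1 + 1)))]; simp)

omit [EnoughInjectives C] [HasInjectiveResolutions C] in
lemma shortExact_seqZ (j : ℕ) (h : X.ExactAt (j + 1)) : (seqZ X j).ShortExact where
  exact := by
    refine ShortComplex.exact_of_f_is_kernel _ ?_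
    exact isKernelOfComp _ (X.d j (j + 1)) (kernelIsKernel (X.d j (j + 1))) _ (kernel.lift_ι _ _ _)
  mono_f := inferInstanceAs (Mono (kernel.ι _))
  epi_g := epi_toCyc_of_exactAt X j h

variable [∀ j, Injective (X.X j)] {n : ℕ} (hex : ∀ j, j < n → X.ExactAt (j + 1))

include hex in
/-- Dimension shifting along a partial resolution. -/
lemma nonempty_cyc_iso (j : ℕ) (hj : j ≤ n) (k : ℕ) :
    Nonempty ((G.rightDerived (k + 1)).obj (cyc X j) ≅ (G.rightDerived (k + 1 + j)).obj (cyc X 0)) := by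
  induction j generalizing k with
  | zero => exact ⟨Iso.refl _⟩
  | succ j ih =>
    obtain ⟨e⟩ := nonempty_shift_iso G (shortExact_seqZ X j (hex j (by omega))) k
      (G.isZero_rightDerived_obj_injective_succ _ _) (G.isZero_rightDerived_obj_injective_succ _ _)
    obtain ⟨e'⟩ := ih (by omega) (k + 1)
    exact ⟨e ≪≫ e' ≪≫ eqToIso (by rw [show k + 1 + 1 + j = k + 1 + (j + 1) by omega])⟩

include hex in
/-- The last derived functor seen by a partial resolution. -/
lemma nonempty_top_iso [PreservesFiniteLimits G] :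
    Nonempty ((G.rightDerived (n + 1)).obj (cyc X 0) ≅
      cokernel (G.map (cokernel.π (kernel.ι (X.d n (n + 1)))))) := by
  obtain ⟨e₁⟩ := nonempty_cyc_iso G X hex n le_rfl 0
  obtain ⟨e₂⟩ := nonempty_one_iso G (shortExact_seqB X n) (G.isZero_rightDerived_obj_injective_succ _ _)
  exact ⟨eqToIso (by rw [show n + 1 = 0 + 1 + n by omega]) ≪≫ e₁.symm ≪≫ e₂⟩

end Cx

section Homology

variable (X : CochainComplex C ℕ) [PreservesFiniteLimits G]

omit [EnoughInjectives C] [HasInjectiveResolutions C] in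
/-- The homology of the image complex, through the cycles. -/
lemma nonempty_homology_iso (j : ℕ) :
    Nonempty (((G.mapHomologicalComplex (ComplexShape.up ℕ)).obj X).homology (j + 1) ≅
      cokernel (G.map (toCyc X j))) := by
  let Y := (G.mapHomologicalComplex (ComplexShape.up ℕ)).obj X
  let e : Y.homology (j + 1) ≅ (Y.sc' j (j + 1) (j + 1 + 1)).homology :=
    Y.homologyIsoSc' j (j + 1) (j + 1 + 1) (by simp) (by simp)
  let S := Y.sc' j (j + 1) (j + 1 + 1)
  have hk : IsLimit (KernelFork.ofι (G.map (kernel.ι (X.d (j + 1) (j + 1 + 1))))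
      ((G.map_comp _ _).symm.trans ((congrArg G.map (kernel.condition _)).trans (G.map_zero _ _))) :
        KernelFork S.g) :=
    isLimitForkMapOfIsLimit' G (kernel.condition _) (kernelIsKernel _)
  let h := S.leftHomologyData.homologyIso
  let c : S.cycles ≅ G.obj (cyc X (j + 1)) := S.cyclesIsKernel.conePointUniqueUpToIso hk
  have hc : c.hom ≫ G.map (kernel.ι (X.d (j + 1) (j + 1 + 1))) = S.iCycles :=
    IsLimit.conePointUniqueUpToIso_hom_comp S.cyclesIsKernel hk WalkingParallelPair.zero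
  refine ⟨e ≪≫ (S.homologyIsCokernel.coconePointUniqueUpToIso (cokernelIsCokernel _)) ≪≫
    cokernel.mapIso _ _ (Iso.refl _) c ?_⟩
  have : Mono (G.map (kernel.ι (X.d (j + 1) (j + 1 + 1)))) := mono_of_isLimit_fork hk
  rw [← cancel_mono (G.map (kernel.ι (X.d (j + 1) (j + 1 + 1)))), Category.assoc, hc]
  refine (ShortComplex.toCycles_i S).trans ?_
  refine Eq.trans ?_ ((congrArg (· ≫ G.map (kernel.ι _)) (Category.id_comp (G.map (toCyc X j)))).trans
    ((G.map_comp _ _).symm.trans (congrArg G.map (kernel.lift_ι _ _ _)))).symm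
  rfl

/-- `Rⁱ` is the homology of the image of a partial resolution. -/
lemma nonempty_derived_homology_iso [∀ j, Injective (X.X j)] {n : ℕ} (hex : ∀ j, j < n → X.ExactAt (j + 1))
    (j : ℕ) (hj : j < n) :
    Nonempty ((G.rightDerived (j + 1)).obj (cyc X 0) ≅
      ((G.mapHomologicalComplex (ComplexShape.up ℕ)).obj X).homology (j + 1)) := by
  obtain ⟨e₁⟩ := nonempty_cyc_iso G X hex j hj.le 0
  obtain ⟨e₂⟩ := nonempty_one_iso G (shortExact_seqZ X j (hex j hj)) (G.isZero_rightDerived_obj_injective_succ _ _)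
  obtain ⟨e₃⟩ := nonempty_homology_iso G X j
  exact ⟨eqToIso (by rw [show j + 1 = 0 + 1 + j by omega]) ≪≫ e₁.symm ≪≫ e₂ ≪≫ e₃.symm⟩

end Homology

end Groth.Agent.TwoTop
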