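import Groth.Agent.TwoTop.Vanish
import Groth.Agent.EtMV.PushAcyclic
import Groth.Agent.SSExist.SiteSheaf

/-!
# Consequences of the vanishing of `Rⁱε_*` on `A_X`
-/

set_option autoImplicit false

universe u

open CategoryTheory CategoryTheory.Limits CategoryTheory.Abelian Opposite HomologicalComplex

namespace Groth.Agent.TwoTop

variable {C : Type u} [SmallCategory C] {J J' : GrothendieckTopology C} (T : Setting J J')

lemma isZero_derived (X : C) (F : Sheaf (J.over X) AddCommGrpCat.{u}) (hF : T.InA X F) :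
    ∀ i, 1 ≤ i → IsZero (((T.e X).rightDerived i).obj F)
  | j + 1, _ => T.V_all (j + 1) X F hF j (Nat.lt_succ_self j)

/-- `A_X` is weak Serre. -/
lemma isWeakSerre_inA (X : C) : WSerre.IsWeakSerre (T.InA X) where
  exists_zero := ⟨_, isZero_zero _, inA_zero (isZero_zero _)⟩
  kernels_le := by
    rintro _ ⟨f, k, hk, hf⟩
    exact inA_of_iso ((kernelIsKernel f).conePointUniqueUpToIso hk) (inA_kernel f hf.1 hf.2)
  cokernels_le := by
    rintro _ ⟨f, k, hk, hf⟩
    exact inA_of_iso ((cokernelIsCokernel f).coconePointUniqueUpToIso hk) (inA_cokernel f hf.1 hf.2)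
  prop_X₂_of_shortExact {S} hS h₁ h₃ := by
    have : Mono S.f := hS.mono_f
    have he : (S.map (T.e X)).ShortExact :=
      { mono_f := (T.e X).map_mono S.f
        epi_g := epi_map_g (T.e X) hS (isZero_derived T X S.X₁ h₁ 1 le_rfl)
        exact := hS.exact.map_of_mono_of_preservesKernel (T.e X) hS.mono_f inferInstance }
    exact (T.A' X).prop_X₂_of_shortExact he h₁ h₃

section Derived

variable {A B : Type (u + 1)} [Category.{u} A] [Category.{u} B] [Abelian A] [Abelian B] [HasInjectiveResolutions A]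

/-- Derived functors of isomorphic functors. -/
noncomputable def derivedIso {F G : A ⥤ B} [F.Additive] [G.Additive] (α : F ≅ G) (i : ℕ) :
    F.rightDerived i ≅ G.rightDerived i where
  hom := NatTrans.rightDerived α.hom i
  inv := NatTrans.rightDerived α.inv i
  hom_inv_id := by rw [← NatTrans.rightDerived_comp, α.hom_inv_id, NatTrans.rightDerived_id]
  inv_hom_id := by rw [← NatTrans.rightDerived_comp, α.inv_hom_id, NatTrans.rightDerived_id]

end Derived

/-- `ε_*` commutes with all higher direct images on `A_X`. -/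
lemma nonempty_derived_dir_iso {X Y : C} (f : X ⟶ Y) (hf : T.P f) [HasPullbacksAlong f]
    (F : Sheaf (J.over X) AddCommGrpCat.{u}) (hF : T.InA X F) :
    ∀ i, Nonempty (((dir J' f).rightDerived i).obj ((T.e X).obj F) ≅
      (T.e Y).obj (((dir J f).rightDerived i).obj F))
  | 0 => ⟨(dir J' f).rightDerivedZeroIsoSelf.app _ ≪≫ (eDirIso (T := T) f).symm.app F ≪≫
      (T.e Y).mapIso ((dir J f).rightDerivedZeroIsoSelf.app F).symm⟩
  | j + 1 => by
    let P := injectiveResolution F
    let I : CochainComplex (Sheaf (J.over X) AddCommGrpCat.{u}) ℕ := P.cocomplex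
    have : ∀ j, Injective (I.X j) := fun j => P.injective j
    let i₀ : F ≅ cyc I 0 :=
      P.isLimitKernelFork.conePointUniqueUpToIso (limit.isLimit (parallelPair (I.d 0 1) 0))
    obtain ⟨hA', ⟨i₁⟩⟩ := derived_dir_iso (T.V_all (j + 1)) f hf I (fun k => P.cocomplex_exactAt_succ k)
      (inA_of_iso i₀ hF) j (Nat.lt_succ_self j)
    obtain ⟨-, -, ⟨i₂⟩⟩ := inA_coh (dirCx f I) j hA'
    exact ⟨((dir J' f).rightDerived (j + 1)).mapIso ((T.e X).mapIso i₀) ≪≫ i₁ ≪≫ i₂ ≪≫
      (T.e Y).mapIso (P.isoRightDerivedObj (dir J f) (j + 1)).symm⟩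

/-- The free sheaf commutes with `ε^{-1}`. -/
noncomputable def epsLFreeIso {K K' : GrothendieckTopology C} (h : K' ≤ K) :
    presheafToSheaf K' AddCommGrpCat.{u} ⋙ epsL K K' ≅ presheafToSheaf K AddCommGrpCat.{u} :=
  Adjunction.leftAdjointUniq ((sheafificationAdjunction K' AddCommGrpCat.{u}).comp (epsAdj h))
    ((sheafificationAdjunction K AddCommGrpCat.{u}).ofNatIsoRight
      (NatIso.ofComponents (fun F => NatIso.ofComponents (fun _ => Iso.refl _) (by intros; exact (Category.comp_id _).trans (Category.id_comp _).symm))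
        (by intros; ext : 2; exact (Category.comp_id _).trans (Category.id_comp _).symm)))

/-- Cohomology of a sheaf in `A'_X` for the two topologies. -/
lemma nonempty_cohomology_equiv (X : C) (F' : Sheaf (J'.over X) AddCommGrpCat.{u}) (hF' : T.A' X F')
    (n : ℕ) (U : Over X) :
    Nonempty (CohSite.HU F' n U ≃+ CohSite.HU ((epsL (J.over X) (J'.over X)).obj F') n U) := by
  let h := SiteCmp.over_le T.le X
  let L := epsL (J.over X) (J'.over X)
  have : L.Additive := Functor.instAdditiveComp _ _
  have : PreservesFiniteLimits L := comp_preservesFiniteLimits _ _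
  have : PreservesFiniteColimits L := by
    have : PreservesColimitsOfSize.{0, 0} L := (epsAdj h).leftAdjoint_preservesColimits
    exact PreservesColimitsOfSize.preservesFiniteColimits _
  let F := L.obj F'
  let u₀ : F' ≅ (T.e X).obj F := @asIso _ _ _ _ ((epsAdj h).unit.app F') (isIso_unit_of_isSheaf h F' (T.h3 X F' hF'))
  have hF : T.InA X F := (T.A' X).prop_of_iso u₀ hF'
  let A := Groth.Agent.SSExist.freeAb (J'.over X) U
  let e₁ := AddEquiv.ofBijective (Groth.Agent.EtMV.Ψr (epsAdj h) A F n)
    (Groth.Agent.EtMV.Ψr_bijective (epsAdj h) A F (fun i hi => isZero_derived T X F hF i hi) n)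
  let a : L.obj A ≅ Groth.Agent.SSExist.freeAb (J.over X) U := (epsLFreeIso h).app _
  exact ⟨((extFunctorObj A n).mapIso u₀).addCommGroupIsoToAddEquiv.trans (e₁.trans
    (((extFunctor n).mapIso a.symm.op).app F).addCommGroupIsoToAddEquiv)⟩

end Groth.Agent.TwoTop
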