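import Groth.Prelude.Def_CohSite
import Mathlib.CategoryTheory.Sites.EpiMono
import Mathlib.Algebra.Homology.ShortComplex.Ab

/-!
# Sections of abelian sheaves on a small site
-/

set_option autoImplicit false

universe u

open CategoryTheory CategoryTheory.Limits Opposite

namespace Groth.Agent.TwoTop

variable {C : Type u} [SmallCategory C] {J : GrothendieckTopology C}

/-- Sections over an object. -/
abbrev ev (U : C) : Sheaf J AddCommGrpCat.{u} ⥤ AddCommGrpCat.{u} :=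
  sheafToPresheaf J _ ⋙ (evaluation _ _).obj (op U)

/-- Restriction of sections. -/
abbrev rs (P : Sheaf J AddCommGrpCat.{u}) {U V : C} (g : V ⟶ U) (x : P.obj.obj (op U)) : P.obj.obj (op V) :=
  P.obj.map g.op x

lemma rs_app {P Q : Sheaf J AddCommGrpCat.{u}} (φ : P ⟶ Q) {U V : C} (g : V ⟶ U) (x : P.obj.obj (op U)) :
    rs Q g (φ.hom.app (op U) x) = φ.hom.app (op V) (rs P g x) :=
  (ConcreteCategory.congr_hom (φ.hom.naturality g.op) x).symm

lemma rs_comp (P : Sheaf J AddCommGrpCat.{u}) {U V W : C} (g : V ⟶ U) (k : W ⟶ V) (x : P.obj.obj (op U)) :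
    rs P (k ≫ g) x = rs P k (rs P g x) := by simp [rs]

lemma app_comp {P Q R : Sheaf J AddCommGrpCat.{u}} (φ : P ⟶ Q) (ψ : Q ⟶ R) (U : C) (x : P.obj.obj (op U)) :
    (φ ≫ ψ).hom.app (op U) x = ψ.hom.app (op U) (φ.hom.app (op U) x) := rfl

lemma eq_of_local (P : Sheaf J AddCommGrpCat.{u}) {U : C} {S : Sieve U} (hS : S ∈ J U)
    {x y : P.obj.obj (op U)} (h : ∀ ⦃V : C⦄ (g : V ⟶ U), S g → rs P g x = rs P g y) : x = y :=
  (((isSheaf_iff_isSheaf_of_type J _).1
    ((Presheaf.isSheaf_iff_isSheaf_forget J P.obj (forget _)).1 P.property)).isSeparated S hS).ext h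

lemma app_injective {P Q : Sheaf J AddCommGrpCat.{u}} (φ : P ⟶ Q) [Mono φ] (U : C) :
    Function.Injective (φ.hom.app (op U)) :=
  (AddCommGrpCat.mono_iff_injective _).mp ((ev (J := J) U).map_mono φ)

lemma exists_local_of_epi {P Q : Sheaf J AddCommGrpCat.{u}} (φ : P ⟶ Q) [Epi φ] (U : C)
    (y : Q.obj.obj (op U)) : ∃ S ∈ J U, ∀ ⦃V : C⦄ (g : V ⟶ U), S g →
      ∃ x, φ.hom.app (op V) x = rs Q g y := by
  have := (Sheaf.isLocallySurjective_iff_epi' (φ := φ)).mpr inferInstance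
  exact ⟨_, Presheaf.imageSieve_mem J φ.hom y, fun V g hg => hg⟩

lemma exists_of_exact_mono (S : ShortComplex (Sheaf J AddCommGrpCat.{u})) (hS : S.Exact) [Mono S.f]
    (U : C) (x : S.X₂.obj.obj (op U)) (hx : S.g.hom.app (op U) x = 0) : ∃ z, S.f.hom.app (op U) z = x := by
  have : (ev (J := J) U).PreservesZeroMorphisms := ⟨fun _ _ => rfl⟩
  have h := ShortComplex.Exact.map_of_mono_of_preservesKernel hS (ev (J := J) U) inferInstance inferInstance
  rw [ShortComplex.ab_exact_iff] at h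
  exact h x hx

lemma exact_local_lift (S : ShortComplex (Sheaf J AddCommGrpCat.{u})) (hS : S.Exact)
    (U : C) (x : S.X₂.obj.obj (op U)) (hx : S.g.hom.app (op U) x = 0) :
    ∃ R ∈ J U, ∀ ⦃V : C⦄ (g : V ⟶ U), R g → ∃ y, S.f.hom.app (op V) y = rs S.X₂ g x := by
  obtain ⟨z, hz⟩ := exists_of_exact_mono (ShortComplex.mk S.iCycles S.g S.iCycles_g)
    (ShortComplex.exact_of_f_is_kernel _ S.cyclesIsKernel) U x hx
  have := S.exact_iff_epi_toCycles.mp hS
  obtain ⟨R, hR, h⟩ := exists_local_of_epi S.toCycles U z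
  refine ⟨R, hR, fun V g hg => ?_⟩
  obtain ⟨y, hy⟩ := h g hg
  refine ⟨y, ?_⟩
  rw [← hz, rs_app, ← hy, ← S.toCycles_i]
  rfl

lemma isZero_of_forall (P : Sheaf J AddCommGrpCat.{u}) (h : ∀ (U : C) (x : P.obj.obj (op U)), x = 0) :
    IsZero P := by
  rw [IsZero.iff_id_eq_zero]
  refine Sheaf.hom_ext (NatTrans.ext (funext fun U => AddCommGrpCat.ext fun x => ?_))
  exact (h U.unop x).trans rfl

end Groth.Agent.TwoTop
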