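import Groth.Agent.SSExist.SiteSheaf
import Groth.Agent.TwoTop.Sect
import Mathlib.CategoryTheory.Abelian.Injective.Ext

/-!
# Cohomology classes and cocycles in an injective resolution
-/

set_option autoImplicit false

universe u

open CategoryTheory CategoryTheory.Limits CategoryTheory.Abelian Opposite Groth.Agent.SSExist

namespace Groth.Agent.TwoTop

variable {C : Type u} [SmallCategory C] {J : GrothendieckTopology C}

/-- The map of free sheaves along an arrow. -/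
noncomputable abbrev freeMap {U V : C} (g : V ⟶ U) : freeAb J V ⟶ freeAb J U :=
  (presheafToSheaf J AddCommGrpCat.{u}).map (Functor.whiskerRight (yoneda.map g) AddCommGrpCat.free)

lemma evalGen_freeMap {U V : C} (g : V ⟶ U) {F : Sheaf J AddCommGrpCat.{u}} (φ : freeAb J U ⟶ F) :
    evalGen J V F (freeMap g ≫ φ) = rs F g (evalGen J U F φ) := by
  show (φ.hom.app (op V)) ((freeMap (J := J) g).hom.app (op V) (genAb J V)) =
    rs F g (φ.hom.app (op U) (genAb J U))
  rw [rs_app]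
  refine congrArg (φ.hom.app (op V)) ?_
  refine (ConcreteCategory.congr_hom (NatTrans.congr_app
    ((sheafificationAdjunction J AddCommGrpCat.{u}).unit.naturality
      (Functor.whiskerRight (yoneda.map g) AddCommGrpCat.free.{u})) (op V))
    (FreeAbelianGroup.of (𝟙 V) : FreeAbelianGroup (V ⟶ V))).symm.trans ?_
  refine Eq.trans ?_ (ConcreteCategory.congr_hom
    ((toSheafify J (yoneda.obj U ⋙ AddCommGrpCat.free.{u})).naturality g.op) (FreeAbelianGroup.of (𝟙 U)))
  refine congrArg ((toSheafify J (yoneda.obj U ⋙ AddCommGrpCat.free.{u})).app (op V)) ?_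
  refine (FreeAbelianGroup.map_of_apply _).trans (Eq.trans ?_ (FreeAbelianGroup.map_of_apply _).symm)
  exact congrArg FreeAbelianGroup.of ((Category.id_comp g).trans (Category.comp_id g).symm)

variable {F : Sheaf J AddCommGrpCat.{u}} (P : InjectiveResolution F) {U : C} {m : ℕ}

/-- `x` is a cocycle representing the class `θ`. -/
def IsClass (θ : CohSite.HU F (m + 1) U) (x : (P.cocomplex.X (m + 1)).obj.obj (op U)) : Prop :=
  ∃ (φ : freeAb J U ⟶ P.cocomplex.X (m + 1)) (hφ : φ ≫ P.cocomplex.d (m + 1) (m + 1 + 1) = 0),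
    P.extMk φ (m + 1 + 1) rfl hφ = θ ∧ evalGen J U _ φ = x

lemma exists_isClass (θ : CohSite.HU F (m + 1) U) :
    ∃ x, IsClass P θ x ∧ (P.cocomplex.d (m + 1) (m + 1 + 1)).hom.app (op U) x = 0 := by
  obtain ⟨φ, hφ, h⟩ := P.extMk_surjective (X := freeAb J U) θ (m + 1 + 1) rfl
  exact ⟨_, ⟨φ, hφ, h, rfl⟩,
    ConcreteCategory.congr_hom (congrArg (fun ψ => ψ.hom.app (op U)) hφ) (genAb J U)⟩

lemma IsClass.res {θ : CohSite.HU F (m + 1) U} {x} (h : IsClass P θ x) {V : C} (g : V ⟶ U) :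
    IsClass P (CohSite.res F (m + 1) g θ) (rs (P.cocomplex.X (m + 1)) g x) := by
  obtain ⟨φ, hφ, rfl, rfl⟩ := h
  exact ⟨freeMap g ≫ φ, by rw [Category.assoc, hφ, comp_zero],
    (P.mk₀_comp_extMk φ _ rfl hφ (freeMap g)).symm, evalGen_freeMap g φ⟩

lemma IsClass.eq_zero_iff {θ : CohSite.HU F (m + 1) U} {x} (h : IsClass P θ x) :
    θ = 0 ↔ ∃ y, (P.cocomplex.d m (m + 1)).hom.app (op U) y = x := by
  obtain ⟨φ, hφ, rfl, rfl⟩ := h
  refine (P.extMk_eq_zero_iff φ _ rfl hφ m rfl).trans ?_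
  constructor
  · rintro ⟨ψ, rfl⟩
    exact ⟨evalGen J U _ ψ, rfl⟩
  · rintro ⟨y, hy⟩
    obtain ⟨ψ, rfl⟩ := (evalGen_bijective J U _).2 y
    exact ⟨ψ, (evalGen_bijective J U _).1 hy⟩

lemma IsClass.sub {θ θ' : CohSite.HU F (m + 1) U} {x x'} (h : IsClass P θ x) (h' : IsClass P θ' x') :
    IsClass P (θ - θ') (x - x') := by
  obtain ⟨φ, hφ, rfl, rfl⟩ := h
  obtain ⟨φ', hφ', rfl, rfl⟩ := h'
  exact ⟨φ - φ', by rw [Preadditive.sub_comp, hφ, hφ', sub_zero],
    (P.sub_extMk φ φ' _ rfl hφ hφ').symm, map_sub (evalGen J U _) φ φ'⟩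

end Groth.Agent.TwoTop
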