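import Groth.Agent.TwoTop.Main
import Groth.Agent.TwoTop.Classes

/-!
# Killing an equalized class on a covering of the base
-/

set_option autoImplicit false

universe u

open CategoryTheory CategoryTheory.Limits Opposite HomologicalComplex

namespace Groth.Agent.TwoTop

variable {C : Type u} [SmallCategory C] {J J' : GrothendieckTopology C} (T : Setting J J')
  {X Y : C} (f : X ⟶ Y) (hf : T.P f)
  (hcov : Sieve.ofArrows (fun _ : PUnit.{u + 1} => X) (fun _ => f) ∈ J Y) [HasPullbacksAlong f]

/-- The projection of a base change to `X`, over `Y`. -/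
noncomputable abbrev prX (Z : Over Y) :
    (Over.map f).obj ((Over.pullback f).obj Z) ⟶ Over.mk f :=
  Over.homMk (pullback.snd Z.hom f) rfl

lemma map_pullback_prX {Z Z' : Over Y} (g : Z' ⟶ Z) :
    (Over.map f).map ((Over.pullback f).map g) ≫ prX f Z = prX f Z' := by
  ext
  simp [prX]
  exact pullback.lift_snd _ _ _

include hf hcov in
/-- An equalized cocycle becomes a coboundary on a covering of the base. -/
lemma exists_cover_of_equalized (F' : Sheaf (J'.over Y) AddCommGrpCat.{u}) (hF' : T.A' Y F')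
    (P : InjectiveResolution F') {n : ℕ} (θ : CohSite.HU F' (n + 1) (Over.mk f))
    (hθ : ∀ (W : C) (p q : W ⟶ X) (hW : IsPullback p q f f),
      CohSite.res F' (n + 1) (Over.homMk p rfl : Over.mk (p ≫ f) ⟶ Over.mk f) θ =
        CohSite.res F' (n + 1) (Over.homMk q hW.w.symm : Over.mk (p ≫ f) ⟶ Over.mk f) θ)
    (t : (P.cocomplex.X (n + 1)).obj.obj (op (Over.mk f))) (hcl : IsClass P θ t)
    (ht : (P.cocomplex.d (n + 1) (n + 1 + 1)).hom.app (op (Over.mk f)) t = 0) :
    ∃ S ∈ J'.over Y (tp Y), ∀ ⦃Z : Over Y⦄ (g : Z ⟶ tp Y), S g →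
      ∃ y, (P.cocomplex.d n (n + 1)).hom.app (op ((Over.map f).obj ((Over.pullback f).obj Z))) y =
        rs (P.cocomplex.X (n + 1)) (prX f Z) t := by
  let I : CochainComplex (Sheaf (J'.over Y) AddCommGrpCat.{u}) ℕ := P.cocomplex
  have : ∀ j, Injective (I.X j) := fun j => P.injective j
  have hI : ∀ j, I.ExactAt (j + 1) := fun j => P.cocomplex_exactAt_succ j
  let C' := resCx f I
  let π₀ := cokernel.π (kernel.ι (C'.d n (n + 1)))
  let ι₀ := bdryι C' n
  have : Mono ι₀ := mono_bdryι C' n
  have hπι : π₀ ≫ ι₀ = C'.d n (n + 1) := cokernel.π_desc _ _ _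
  let R := cokernel ((dir J' f).map π₀)
  have hR : T.A' Y R := by
    obtain ⟨i₁⟩ := nonempty_top_iso (dir J' f) C' (n := n) (fun j _ => exactAt_resCx f I hI j)
    have := res_preservesFiniteLimits J' f
    obtain ⟨i₂⟩ := cyc_map_zero (res J' f) I
    let i₀ : F' ≅ cyc I 0 :=
      P.isLimitKernelFork.conePointUniqueUpToIso (limit.isLimit (parallelPair (I.d 0 1) 0))
    exact (T.A' Y).prop_of_iso (((dir J' f).rightDerived (n + 1)).mapIso ((res J' f).mapIso i₀ ≪≫ i₂.symm) ≪≫ i₁)
      (inA'_derived f hf (T.h2 f F' hF') (n + 1))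
  let B := (dir J' f).obj (bdry C' n)
  let tZ : ∀ Z : Over Y, (I.X (n + 1)).obj.obj (op ((Over.map f).obj ((Over.pullback f).obj Z))) :=
    fun Z => rs (I.X (n + 1)) (prX f Z) t
  -- `t` is locally a boundary
  have hex : exSieve I n t ∈ J'.over Y (Over.mk f) := by
    obtain ⟨R₀, hR₀, hR₀'⟩ := exact_local_lift _
      ((I.exactAt_iff' n (n + 1) (n + 1 + 1) (by simp) (by simp)).1 (hI n)) (Over.mk f) t ht
    exact (J'.over Y).superset_covering (fun V g hg => hR₀' g hg) hR₀
  let P₀ := (Over.pullback f).obj (tp Y)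
  let x₀ : (C'.X (n + 1)).obj.obj (op P₀) := tZ (tp Y)
  have hC' : C'.ExactAt (n + 1) := exactAt_resCx f I hI n
  have hx₀ : (cokernel.π ι₀).hom.app (op P₀) x₀ = 0 := by
    obtain ⟨R₀, hR₀, hR₀'⟩ := exact_local_lift _
      ((C'.exactAt_iff' n (n + 1) (n + 1 + 1) (by simp) (by simp)).1 hC') P₀ x₀
      ((rs_app (I.d (n + 1) (n + 1 + 1)) (prX f (tp Y)) t).symm.trans
        ((congrArg (rs (I.X (n + 1 + 1)) (prX f (tp Y))) ht).trans (map_zero _)))
    refine eq_of_local _ hR₀ fun V g hg => ?_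
    obtain ⟨b, hb⟩ := hR₀' g hg
    refine (rs_app (cokernel.π ι₀) g x₀).trans ?_
    refine (congrArg ((cokernel.π ι₀).hom.app (op V)) (hb.symm.trans
      (ConcreteCategory.congr_hom (congrArg (fun φ => φ.hom.app (op V)) hπι.symm) b))).trans ?_
    refine Eq.trans ?_ (map_zero ((cokernel ι₀).obj.map g.op).hom).symm
    exact ConcreteCategory.congr_hom (congrArg (fun φ => φ.hom.app (op V)) (cokernel.condition ι₀))
      (π₀.hom.app (op V) b)
  obtain ⟨σ₀, hσ₀⟩ := exists_of_exact_mono (ShortComplex.mk ι₀ (cokernel.π ι₀) (cokernel.condition _))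
    (ShortComplex.exact_of_g_is_cokernel _ (cokernelIsCokernel _)) P₀ x₀ hx₀
  let σ : B.obj.obj (op (tp Y)) := σ₀
  have hισ : ∀ (Z : Over Y), ((dir J' f).map ι₀).hom.app (op Z) (rs B (toTop Z) σ) = tZ Z := fun Z => by
    rw [← rs_app]
    refine (congrArg (rs ((dir J' f).obj (C'.X (n + 1))) (toTop Z)) hσ₀).trans ?_
    exact (rs_comp (I.X (n + 1)) (prX f (tp Y)) ((Over.map f).map ((Over.pullback f).map (toTop Z))) t).symm.trans
      (congrArg (fun k => rs (I.X (n + 1)) k t) (map_pullback_prX f (toTop Z)))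
  have hd : ∀ (Z : Over Y) (c : ((dir J' f).obj (C'.X n)).obj.obj (op Z)),
      ((dir J' f).map ι₀).hom.app (op Z) (((dir J' f).map π₀).hom.app (op Z) c) =
        (I.d n (n + 1)).hom.app (op ((Over.map f).obj ((Over.pullback f).obj Z))) c := fun Z c =>
    ConcreteCategory.congr_hom (congrArg (fun φ => φ.hom.app (op ((Over.pullback f).obj Z))) hπι) c
  let r := cokernel.π ((dir J' f).map π₀)
  have hr : r.hom.app (op (tp Y)) σ = 0 := by
    refine eq_zero_of_locally (T.h3 Y R hR) _ (single_mem_over f hcov) _ fun V g hg => ?_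
    obtain ⟨u, -⟩ := single_sieve_factor f g hg
    suffices h : rs R (toTop (Over.mk f)) (r.hom.app (op (tp Y)) σ) = 0 by
      show rs R g _ = 0
      rw [toTop_unique g (u ≫ toTop _), rs_comp, h]
      exact map_zero _
    refine eq_of_local _ hex fun M k hk => ?_
    obtain ⟨b, hb⟩ := hk
    rw [← rs_comp, toTop_unique (k ≫ toTop _) (toTop M), rs_app]
    refine Eq.trans ?_ (map_zero (R.obj.map k.op).hom).symm
    -- the equalization over `M ×_Y X`
    let M' := (Over.map f).obj ((Over.pullback f).obj M)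
    let a : M' ⟶ Over.mk f := (Over.mapPullbackAdj f).counit.app M ≫ k
    let c : M' ⟶ Over.mk f := prX f M
    have hW : IsPullback (pullback.fst f f) (pullback.snd f f) f f := IsPullback.of_hasPullback f f
    let W : Over Y := Over.mk (pullback.fst f f ≫ f)
    let p' : W ⟶ Over.mk f := Over.homMk (pullback.fst f f) rfl
    let q' : W ⟶ Over.mk f := Over.homMk (pullback.snd f f) hW.w.symm
    have haw := Over.w a
    have hcw := Over.w c
    dsimp at haw hcw
    let m : M' ⟶ W := Over.homMk (pullback.lift a.left c.left (haw.trans hcw.symm)) (by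
      show pullback.lift a.left c.left _ ≫ pullback.fst f f ≫ f = M'.hom
      rw [← Category.assoc, pullback.lift_fst]
      exact haw)
    have hma : m ≫ p' = a := by ext; exact pullback.lift_fst _ _ _
    have hmc : m ≫ q' = c := by ext; exact pullback.lift_snd _ _ _
    have hpq := ((hcl.res P p').sub P (hcl.res P q')).res P m
    rw [sub_eq_zero.2 (hθ _ _ _ hW)] at hpq
    obtain ⟨e, he⟩ := hpq.eq_zero_iff P |>.1 (map_zero _)
    let b' : (I.X n).obj.obj (op M') := rs (I.X n) ((Over.mapPullbackAdj f).counit.app M) b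
    let e' : (I.X n).obj.obj (op M') := e
    let y : ((dir J' f).obj (C'.X n)).obj.obj (op M) := b' - e'
    have hy : (I.d n (n + 1)).hom.app (op M') y = tZ M := by
      show (I.d n (n + 1)).hom.app (op M') (b' - e') = rs (I.X (n + 1)) c t
      rw [map_sub, show (I.d n (n + 1)).hom.app (op M') b' = rs (I.X (n + 1)) a t from
        (rs_app (I.d n (n + 1)) ((Over.mapPullbackAdj f).counit.app M) b).symm.trans
          ((congrArg (rs (I.X (n + 1)) _) hb).trans (rs_comp (I.X (n + 1)) k _ t).symm)]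
      refine (congrArg₂ (· - ·) rfl he).trans ?_
      refine (congrArg₂ (· - ·) rfl ((map_sub ((I.X (n + 1)).obj.map m.op).hom _ _).trans
        (congrArg₂ (· - ·) (rs_comp (I.X (n + 1)) p' m t).symm (rs_comp (I.X (n + 1)) q' m t).symm))).trans ?_
      rw [hma, hmc]
      exact sub_sub_cancel _ _
    have hy' : rs B (toTop M) σ = ((dir J' f).map π₀).hom.app (op M) y :=
      app_injective ι₀ ((Over.pullback f).obj M) ((hισ M).trans (hy.symm.trans (hd M y).symm))
    rw [hy']
    exact ConcreteCategory.congr_hom (congrArg (fun φ => φ.hom.app (op M))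
      (cokernel.condition ((dir J' f).map π₀))) _
  obtain ⟨R₁, hR₁, hR₁'⟩ := exact_local_lift (ShortComplex.mk ((dir J' f).map π₀) r (cokernel.condition _))
    (ShortComplex.exact_of_g_is_cokernel _ (cokernelIsCokernel _)) (tp Y) σ hr
  refine ⟨R₁, hR₁, fun Z g hg => ?_⟩
  obtain ⟨y, hy⟩ := hR₁' g hg
  refine ⟨y, ?_⟩
  rw [toTop_unique g (toTop Z)] at hy
  exact (hd Z y).symm.trans ((congrArg _ hy).trans (hισ Z))

end Groth.Agent.TwoTop
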