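import Groth.Agent.TwoTop.Setting
import Mathlib.Algebra.Homology.SingleHomology

/-!
# Cohomology sheaves in `A_X`, and their consequences for `ε_*`
-/

set_option autoImplicit false

universe u

open CategoryTheory CategoryTheory.Limits Opposite HomologicalComplex

namespace Groth.Agent.TwoTop

section Gen

variable {A : Type (u + 1)} [Category.{u} A] [Abelian A] (M : CochainComplex A ℕ)

/-- The cycles as a kernel. -/
noncomputable def cyclesCycIso (j : ℕ) : M.cycles j ≅ cyc M j :=
  (M.cyclesIsKernel j (j + 1) (by simp)).conePointUniqueUpToIso (limit.isLimit _)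

lemma cyclesCycIso_ι (j : ℕ) : (cyclesCycIso M j).hom ≫ kernel.ι _ = M.iCycles j :=
  IsLimit.conePointUniqueUpToIso_hom_comp (M.cyclesIsKernel j (j + 1) (by simp)) (limit.isLimit _)
    WalkingParallelPair.zero

/-- Homology is the cokernel of `toCyc`. -/
noncomputable def cohIso (j : ℕ) : M.homology (j + 1) ≅ cokernel (toCyc M j) :=
  ((M.homologyIsCokernel j (j + 1) (by simp)).coconePointUniqueUpToIso (cokernelIsCokernel _)) ≪≫
    cokernel.mapIso _ _ (Iso.refl _) (cyclesCycIso M (j + 1)) (by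
      rw [← cancel_mono (kernel.ι (M.d (j + 1) (j + 1 + 1))), Category.assoc, cyclesCycIso_ι]
      simp)

lemma homologyπ_cohIso (j : ℕ) :
    M.homologyπ (j + 1) ≫ (cohIso M j).hom = (cyclesCycIso M (j + 1)).hom ≫ cokernel.π (toCyc M j) := by
  simp only [cohIso, Iso.trans_hom, cokernel.mapIso_hom]
  rw [← Category.assoc]
  refine (congrArg (· ≫ _) (IsColimit.comp_coconePointUniqueUpToIso_hom
    (M.homologyIsCokernel j (j + 1) (by simp)) (cokernelIsCokernel _) WalkingParallelPair.one)).trans ?_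
  exact cokernel.π_desc _ _ _

lemma isIso_homologyπ₀ : IsIso (M.homologyπ 0) := (M.isoHomologyπ 0 0 (by simp) (by simp)).isIso_hom

/-- Homology in degree zero is the kernel of the first differential. -/
noncomputable def cohIso₀ : M.homology 0 ≅ cyc M 0 :=
  (M.isoHomologyπ 0 0 (by simp) (by simp)).symm ≪≫ cyclesCycIso M 0

lemma cokernel_bdryToCyc_iso (j : ℕ) : Nonempty (cokernel (bdryToCyc M j) ≅ cokernel (toCyc M j)) := by
  have e : cokernel.π (kernel.ι (M.d j (j + 1))) ≫ bdryToCyc M j = toCyc M j := cokernel.π_desc _ _ _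
  exact ⟨(cokernelEpiComp (cokernel.π (kernel.ι (M.d j (j + 1)))) (bdryToCyc M j)).symm ≪≫ cokernelIsoOfEq e⟩

lemma shortExact_bdryToCyc (j : ℕ) :
    (ShortComplex.mk (bdryToCyc M j) (cokernel.π _) (cokernel.condition _)).ShortExact where
  exact := ShortComplex.exact_of_g_is_cokernel _ (cokernelIsCokernel _)
  mono_f := mono_bdryToCyc M j
  epi_g := inferInstanceAs (Epi (cokernel.π _))

end Gen

variable {C : Type u} [SmallCategory C] {J J' : GrothendieckTopology C} {T : Setting J J'} {n : ℕ}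
  (hV : T.V n) {X : C}

include hV in
/-- `ε_*` of an injective resolution is exact in the degrees where `(V_n)` applies. -/
lemma exactAt_eps (I : CochainComplex (Sheaf (J.over X) AddCommGrpCat.{u}) ℕ) [∀ j, Injective (I.X j)]
    (hI : ∀ j, I.ExactAt (j + 1)) (hA : T.InA X (cyc I 0)) (j : ℕ) (hj : j < n) :
    (((T.e X).mapHomologicalComplex (ComplexShape.up ℕ)).obj I).ExactAt (j + 1) := by
  obtain ⟨i⟩ := nonempty_derived_homology_iso (T.e X) I (n := j + 1) (fun i _ => hI i) j (by omega)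
  exact (HomologicalComplex.exactAt_iff_isZero_homology _ _).2 ((hV X _ hA j hj).of_iso i.symm)

/-- Cycles in degree zero commute with a left exact functor. -/
lemma cyc_map_zero {A B : Type (u + 1)} [Category.{u} A] [Category.{u} B] [Abelian A] [Abelian B] (G : A ⥤ B)
    [G.Additive] [PreservesFiniteLimits G] (M : CochainComplex A ℕ) :
    Nonempty (cyc ((G.mapHomologicalComplex (ComplexShape.up ℕ)).obj M) 0 ≅ G.obj (cyc M 0)) :=
  ⟨(PreservesKernel.iso G (M.d 0 (0 + 1))).symm⟩

/-- Cohomology sheaves of complexes with `ε_*`-cohomology in `A'_X`. -/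
lemma inA_coh (M : CochainComplex (Sheaf (J.over X) AddCommGrpCat.{u}) ℕ) (j : ℕ)
    (hQ : T.A' X ((((T.e X).mapHomologicalComplex (ComplexShape.up ℕ)).obj M).homology (j + 1))) :
    T.InA X (M.homology (j + 1)) ∧ Epi ((T.e X).map (M.homologyπ (j + 1))) ∧
      Nonempty ((((T.e X).mapHomologicalComplex (ComplexShape.up ℕ)).obj M).homology (j + 1) ≅
        (T.e X).obj (M.homology (j + 1))) := by
  obtain ⟨i⟩ := nonempty_homology_iso (T.e X) M j
  obtain ⟨hA, hi, hepi⟩ := trick (T := T) (toCyc M j) ((T.A' X).prop_of_iso i hQ)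
  refine ⟨inA_of_iso (cohIso M j).symm hA, ?_,
    ⟨i ≪≫ @asIso _ _ _ _ (cokernelComparison (toCyc M j) (T.e X)) hi ≪≫ (T.e X).mapIso (cohIso M j).symm⟩⟩
  have e : M.homologyπ (j + 1) =
      (cyclesCycIso M (j + 1)).hom ≫ cokernel.π (toCyc M j) ≫ (cohIso M j).inv := by
    rw [← Category.assoc, ← homologyπ_cohIso, Category.assoc, Iso.hom_inv_id, Category.comp_id]
  rw [e, Functor.map_comp, Functor.map_comp]
  infer_instance

section Direct

variable {Y : C} (f : X ⟶ Y) (hf : T.P f) [HasPullbacksAlong f]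
  (I : CochainComplex (Sheaf (J.over X) AddCommGrpCat.{u}) ℕ) [∀ j, Injective (I.X j)]

/-- The direct image complex. -/
noncomputable abbrev dirCx : CochainComplex (Sheaf (J.over Y) AddCommGrpCat.{u}) ℕ :=
  ((dir J f).mapHomologicalComplex (ComplexShape.up ℕ)).obj I

include hf in
omit [∀ j, Injective (I.X j)] in
lemma inA_dirCx_cyc₀ (hA : T.InA X (cyc I 0)) : T.InA Y (cyc (dirCx f I) 0) := by
  obtain ⟨i⟩ := cyc_map_zero (dir J f) I
  exact inA_of_iso i.symm (inA_dir f hf hA)

include hV hf in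
/-- `ε_*` commutes with higher direct images. -/
lemma derived_dir_iso (hI : ∀ j, I.ExactAt (j + 1)) (hA : T.InA X (cyc I 0)) (j : ℕ) (hj : j < n) :
    T.A' Y ((((T.e Y).mapHomologicalComplex (ComplexShape.up ℕ)).obj (dirCx f I)).homology (j + 1)) ∧
      Nonempty (((dir J' f).rightDerived (j + 1)).obj ((T.e X).obj (cyc I 0)) ≅
        (((T.e Y).mapHomologicalComplex (ComplexShape.up ℕ)).obj (dirCx f I)).homology (j + 1)) := by
  let C' := ((T.e X).mapHomologicalComplex (ComplexShape.up ℕ)).obj I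
  have : ∀ i, Injective (C'.X i) := fun i => (T.e X).injective_obj (I.X i)
  obtain ⟨i₁⟩ := nonempty_derived_homology_iso (dir J' f) C' (n := n)
    (fun i hi => exactAt_eps hV I hI hA i hi) j hj
  obtain ⟨i₂⟩ := cyc_map_zero (T.e X) I
  have i₃ : (((T.e Y).mapHomologicalComplex (ComplexShape.up ℕ)).obj (dirCx f I)) ≅
      ((dir J' f).mapHomologicalComplex (ComplexShape.up ℕ)).obj C' := Iso.refl _
  let i₄ := ((dir J' f).rightDerived (j + 1)).mapIso i₂.symm ≪≫ i₁ ≪≫
    (HomologicalComplex.homologyFunctor _ _ (j + 1)).mapIso i₃.symm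
  exact ⟨(T.A' Y).prop_of_iso i₄ (inA'_derived f hf hA _), ⟨i₄⟩⟩

include hV hf in
/-- The cohomology sheaves of the direct image complex are in `A_Y`. -/
lemma inA_dirCx_homology (hI : ∀ j, I.ExactAt (j + 1)) (hA : T.InA X (cyc I 0)) :
    ∀ i, i ≤ n → T.InA Y ((dirCx f I).homology i) ∧ Epi ((T.e Y).map ((dirCx f I).homologyπ i))
  | 0, _ => by
    have := isIso_homologyπ₀.{u} (dirCx (J := J) f I)
    exact ⟨inA_of_iso (cohIso₀ _).symm (inA_dirCx_cyc₀ f hf I hA), inferInstance⟩
  | j + 1, hj => by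
    obtain ⟨h1, h2, -⟩ := inA_coh (dirCx f I) j (derived_dir_iso hV f hf I hI hA j (by omega)).1
    exact ⟨h1, h2⟩

end Direct

section Acyclic

variable (M : CochainComplex (Sheaf (J.over X) AddCommGrpCat.{u}) ℕ) [∀ j, Injective (M.X j)]

include hV in
/-- Cycles are acyclic for `ε_*` in a range when the cohomology sheaves below are in `A_X`. -/
lemma isZero_derived_cyc : ∀ (j : ℕ), (∀ i, i ≤ j → T.InA X (M.homology i)) → ∀ l, l + j < n →
    IsZero (((T.e X).rightDerived (l + 1)).obj (cyc M j))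
  | 0, hH, l, hl => hV X _ (inA_of_iso (cohIso₀ M) (hH 0 le_rfl)) l (by omega)
  | j + 1, hH, l, hl => by
    obtain ⟨i⟩ := cokernel_bdryToCyc_iso M j
    have hB : IsZero (((T.e X).rightDerived (l + 1)).obj (bdry M j)) :=
      acyclic_right (T.e X) (shortExact_seqB M j) (l + 1)
        ((T.e X).isZero_rightDerived_obj_injective_succ l (M.X j))
        (isZero_derived_cyc j (fun i hi => hH i (by omega)) (l + 1) (by omega))
    exact acyclic_middle (T.e X) (shortExact_bdryToCyc M j) (l + 1) hB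
      (hV X _ (inA_of_iso i.symm (inA_of_iso (cohIso M j) (hH (j + 1) le_rfl))) l (by omega))

include hV in
/-- A section which is locally exact for the finer topology is so for the coarser one. -/
lemma exists_J'_lift (j : ℕ) (hj : j < n) (hH : ∀ i, i ≤ j → T.InA X (M.homology i)) {U : Over X}
    (z : (M.X (j + 1)).obj.obj (op U))
    (hz : ∃ S ∈ J.over X U, ∀ ⦃V : Over X⦄ (g : V ⟶ U), S g →
      ∃ c, (M.d j (j + 1)).hom.app (op V) c = rs (M.X (j + 1)) g z) :
    ∃ S ∈ J'.over X U, ∀ ⦃V : Over X⦄ (g : V ⟶ U), S g →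
      ∃ c, (M.d j (j + 1)).hom.app (op V) c = rs (M.X (j + 1)) g z := by
  obtain ⟨S, hS, hS'⟩ := hz
  have hdι : cokernel.π (kernel.ι (M.d j (j + 1))) ≫ bdryι M j = M.d j (j + 1) := cokernel.π_desc _ _ _
  let q : ShortComplex (Sheaf (J.over X) AddCommGrpCat.{u}) :=
    ShortComplex.mk (bdryι M j) (cokernel.π _) (cokernel.condition _)
  have : Mono q.f := mono_bdryι M j
  have hq0 : (cokernel.π (bdryι M j)).hom.app (op U) z = 0 := by
    refine eq_of_local _ hS fun V g hg => ?_
    obtain ⟨c, hc⟩ := hS' g hg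
    rw [rs_app, ← hc, ← hdι]
    refine Eq.trans ?_ (map_zero ((cokernel (bdryι M j)).obj.map g.op).hom).symm
    exact ConcreteCategory.congr_hom (congrArg (fun φ => φ.hom.app (op V)) (cokernel.condition (bdryι M j))) _
  obtain ⟨β, hβ⟩ := exists_of_exact_mono q (ShortComplex.exact_of_g_is_cokernel _ (cokernelIsCokernel _)) U z hq0
  have : Epi ((T.e X).map (cokernel.π (kernel.ι (M.d j (j + 1))))) :=
    epi_map_g (T.e X) (shortExact_seqB M j) (isZero_derived_cyc hV M j hH 0 (by omega))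
  obtain ⟨R, hR, hR'⟩ := exists_local_of_epi ((T.e X).map (cokernel.π (kernel.ι (M.d j (j + 1))))) U β
  refine ⟨R, hR, fun V g hg => ?_⟩
  obtain ⟨c, hc⟩ := hR' g hg
  refine ⟨c, ?_⟩
  rw [← hdι, ← hβ, rs_app]
  exact congrArg ((bdryι M j).hom.app (op V)) hc

end Acyclic

end Groth.Agent.TwoTop
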