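import Groth.Agent.TwoTop.Step

/-!
# Descending local exactness along a covering in `P`
-/

set_option autoImplicit false

universe u

open CategoryTheory CategoryTheory.Limits Opposite HomologicalComplex

namespace Groth.Agent.TwoTop

variable {C : Type u} [SmallCategory C]

section ExSieve

variable {J : GrothendieckTopology C}

/-- The arrows along which a section becomes a boundary. -/
def exSieve (M : CochainComplex (Sheaf J AddCommGrpCat.{u}) ℕ) (m : ℕ) {U : C}
    (x : (M.X (m + 1)).obj.obj (op U)) : Sieve U where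
  arrows V g := ∃ b, (M.d m (m + 1)).hom.app (op V) b = rs (M.X (m + 1)) g x
  downward_closed := by
    rintro V W g ⟨b, hb⟩ k
    exact ⟨rs (M.X m) k b, by rw [← rs_app, hb, rs_comp]⟩

lemma exSieve_pullback (M : CochainComplex (Sheaf J AddCommGrpCat.{u}) ℕ) (m : ℕ) {U V : C} (g : V ⟶ U)
    (x : (M.X (m + 1)).obj.obj (op U)) :
    (exSieve M m x).pullback g = exSieve M m (rs (M.X (m + 1)) g x) := by
  ext W k
  show (∃ b, _ = rs _ (k ≫ g) x) ↔ ∃ b, _ = rs _ k (rs _ g x)
  rw [rs_comp]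

/-- Being locally a boundary is local. -/
lemma exSieve_mem_of_local {K : GrothendieckTopology C} (M : CochainComplex (Sheaf J AddCommGrpCat.{u}) ℕ)
    (m : ℕ) {U : C} (x : (M.X (m + 1)).obj.obj (op U)) {R : Sieve U} (hR : R ∈ K U)
    (h : ∀ ⦃V : C⦄ (g : V ⟶ U), R g → exSieve M m (rs (M.X (m + 1)) g x) ∈ K V) : exSieve M m x ∈ K U :=
  K.transitive hR _ fun V g hg => by rw [exSieve_pullback]; exact h g hg

end ExSieve

variable {J J' : GrothendieckTopology C} {T : Setting J J'} {n : ℕ} (hV : T.V n) {X Y : C} (f : X ⟶ Y)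
  (hf : T.P f) (hcov : Sieve.ofArrows (fun _ : PUnit.{u + 1} => X) (fun _ => f) ∈ J Y)
  [HasPullbacksAlong f]
  (IY : CochainComplex (Sheaf (J.over Y) AddCommGrpCat.{u}) ℕ) [∀ j, Injective (IY.X j)]
  (hI : ∀ j, IY.ExactAt (j + 1)) (hA : T.InA Y (cyc IY 0))
  (s : (IY.X (n + 1)).obj.obj (op (tp Y)))

include hV hf hcov hI hA in
/-- A section locally exact on `X` becomes exact on the direct image complex. -/
lemma exSieve_dirCx_mem
    (hT0 : exSieve (resCx f IY) n (U := tp X) (sY IY s ((Over.map f).obj (tp X))) ∈ J'.over X (tp X)) :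
    exSieve (dirCx f (resCx f IY)) n (((etaCx f IY).f (n + 1)).hom.app (op (tp Y)) s) ∈
      J'.over Y (tp Y) := by
  let C' := ((T.e X).mapHomologicalComplex (ComplexShape.up ℕ)).obj (resCx f IY)
  have : ∀ i, Injective (C'.X i) := fun i => (T.e X).injective_obj ((resCx f IY).X i)
  let π₀ := cokernel.π (kernel.ι (C'.d n (n + 1)))
  let ι₀ := bdryι C' n
  have : Mono ι₀ := mono_bdryι C' n
  have hπι : π₀ ≫ ι₀ = C'.d n (n + 1) := cokernel.π_desc _ _ _
  let R := cokernel ((dir J' f).map π₀)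
  have hR : T.A' Y R := by
    obtain ⟨i₁⟩ := nonempty_top_iso (dir J' f) C'
      (fun j hj => exactAt_eps hV (resCx f IY) (exactAt_resCx f IY hI) (inA_resCx_cyc₀ f IY hA) j hj)
    obtain ⟨i₂⟩ := cyc_map_zero (T.e X) (resCx f IY)
    exact (T.A' Y).prop_of_iso (((dir J' f).rightDerived (n + 1)).mapIso i₂.symm ≪≫ i₁)
      (inA'_derived f hf (inA_resCx_cyc₀ f IY hA) (n + 1))
  let η := (etaCx f IY).f (n + 1)
  let P₀ := (Over.pullback f).obj (tp Y)
  let x₀ : (C'.X (n + 1)).obj.obj (op P₀) := η.hom.app (op (tp Y)) s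
  have hs0 : sY IY s (tp Y) = s := by
    rw [sY, toTop_unique (toTop (tp Y)) (𝟙 (tp Y))]
    simp [rs]
  have hx₀ : (cokernel.π ι₀).hom.app (op P₀) x₀ = 0 := by
    refine eq_of_local _ ((J'.over X).pullback_stable (toTop P₀) hT0) fun V g hg => ?_
    obtain ⟨b, hb⟩ := hg
    have h2 : rs (C'.X (n + 1)) g x₀ = sY IY s ((Over.map f).obj V) := by
      refine Eq.trans ?_ (rs_sY IY s ((Over.map f).map g))
      refine congrArg (rs (IY.X (n + 1)) ((Over.map f).map g)) ?_
      show rs (IY.X (n + 1)) ((Over.mapPullbackAdj f).counit.app (tp Y)) s = _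
      exact (congrArg (rs (IY.X (n + 1)) _) hs0.symm).trans (rs_sY IY s _)
    have h3 : (C'.d n (n + 1)).hom.app (op V) b = rs (C'.X (n + 1)) g x₀ := by
      rw [h2]
      exact hb.trans (rs_sY IY s ((Over.map f).map (g ≫ toTop P₀)))
    rw [rs_app, ← h3, ← hπι]
    refine Eq.trans ?_ (map_zero ((cokernel ι₀).obj.map g.op).hom).symm
    exact ConcreteCategory.congr_hom (congrArg (fun φ => φ.hom.app (op V)) (cokernel.condition ι₀))
      (π₀.hom.app (op V) b)
  obtain ⟨σ₀, hσ₀⟩ := exists_of_exact_mono (ShortComplex.mk ι₀ (cokernel.π ι₀) (cokernel.condition _))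
    (ShortComplex.exact_of_g_is_cokernel _ (cokernelIsCokernel _)) P₀ x₀ hx₀
  let B := (dir J' f).obj (bdry C' n)
  let σ : B.obj.obj (op (tp Y)) := σ₀
  have hισ : ∀ (Z : Over Y), ((dir J' f).map ι₀).hom.app (op Z) (rs B (toTop Z) σ) =
      η.hom.app (op Z) (sY IY s Z) := fun Z => by
    rw [← rs_app]
    refine Eq.trans ?_ (rs_app η (toTop Z) s)
    exact congrArg (rs ((dir J' f).obj (C'.X (n + 1))) (toTop Z)) hσ₀
  have hd : ∀ (Z : Over Y) (c : ((dir J' f).obj (C'.X n)).obj.obj (op Z)),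
      ((dir J' f).map ι₀).hom.app (op Z) (((dir J' f).map π₀).hom.app (op Z) c) =
        ((dirCx f (resCx f IY)).d n (n + 1)).hom.app (op Z) c := fun Z c =>
    ConcreteCategory.congr_hom (congrArg (fun φ => φ.hom.app (op ((Over.pullback f).obj Z))) hπι) c
  let r := cokernel.π ((dir J' f).map π₀)
  have hr : r.hom.app (op (tp Y)) σ = 0 := by
    refine eq_zero_of_locally (T.h3 Y R hR) _ (single_mem_over f hcov) _ fun V g hg => ?_
    obtain ⟨u, -⟩ := single_sieve_factor f g hg
    let i₀ : Over.mk f ⟶ (Over.map f).obj (tp X) := Over.homMk (𝟙 X) (by simp)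
    suffices h : rs R (toTop ((Over.map f).obj (tp X))) (r.hom.app (op (tp Y)) σ) = 0 by
      show rs R g _ = 0
      rw [toTop_unique g ((u ≫ i₀) ≫ toTop _), rs_comp, h]
      exact map_zero _
    refine eq_of_local _ ((GrothendieckTopology.over_map_coverPreserving J' f).cover_preserve hT0)
      fun W k hk => ?_
    obtain ⟨Zx, g₀, k', ⟨b, hb⟩, rfl⟩ := hk
    rw [← rs_comp, toTop_unique ((k' ≫ (Over.map f).map g₀) ≫ toTop _) (k' ≫ toTop _), rs_comp, rs_app,
      rs_app]
    let W₀ := (Over.map f).obj Zx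
    have hW : rs B (toTop W₀) σ = ((dir J' f).map π₀).hom.app (op W₀)
        (((etaCx f IY).f n).hom.app (op W₀) b) := by
      refine app_injective ι₀ ((Over.pullback f).obj W₀) ?_
      refine (hισ W₀).trans ((hd W₀ _).trans ((eta_d f IY W₀ n (n + 1) b).trans ?_)).symm
      exact congrArg (η.hom.app (op W₀)) (hb.trans (rs_sY IY s ((Over.map f).map g₀)))
    rw [hW]
    refine Eq.trans ?_ ((map_zero (R.obj.map (k' ≫ (Over.map f).map g₀).op).hom)).symm
    refine ((rs_app r k' _).symm.trans (congrArg (rs R k') ?_)).trans (map_zero (R.obj.map k'.op).hom)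
    exact ConcreteCategory.congr_hom (congrArg (fun φ => φ.hom.app (op W₀)) (cokernel.condition ((dir J' f).map π₀))) _
  obtain ⟨R₁, hR₁, hR₁'⟩ := exact_local_lift (ShortComplex.mk ((dir J' f).map π₀) r (cokernel.condition _))
    (ShortComplex.exact_of_g_is_cokernel _ (cokernelIsCokernel _)) (tp Y) σ hr
  refine (J'.over Y).superset_covering ?_ hR₁
  intro Z g hg
  obtain ⟨y, hy⟩ := hR₁' g hg
  refine ⟨y, ?_⟩
  rw [← hd Z y, hy, toTop_unique g (toTop Z)]
  exact (hισ Z).trans (rs_app η (toTop Z) s).symm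

end Groth.Agent.TwoTop
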