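import Groth.Agent.TwoTop.Core
import Mathlib.Algebra.Homology.HomologicalComplexLimits
import Mathlib.CategoryTheory.Abelian.Injective.Basic

/-!
# From the direct image complex back to the base
-/

set_option autoImplicit false

universe u

open CategoryTheory CategoryTheory.Limits Opposite HomologicalComplex

namespace Groth.Agent.TwoTop

variable {C : Type u} [SmallCategory C] {J J' : GrothendieckTopology C} {T : Setting J J'} {n : ℕ} (hV : T.V n)
  {Y : C} {A K : CochainComplex (Sheaf (J.over Y) AddCommGrpCat.{u}) ℕ} (η : A ⟶ K)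

include hV in
/-- Descending exactness along a monomorphism of complexes of injectives. -/
lemma exSieve_mem_of_mono [∀ i, Mono (η.f i)] [∀ i, Injective (A.X i)] [∀ i, Injective (K.X i)]
    (hI : ∀ j, A.ExactAt (j + 1)) (hA : T.InA Y (cyc A 0))
    (hK : ∀ i, i ≤ n → T.InA Y (K.homology i) ∧ Epi ((T.e Y).map (K.homologyπ i)))
    {U : Over Y} (s : (A.X (n + 1)).obj.obj (op U))
    (hη : exSieve K n ((η.f (n + 1)).hom.app (op U) s) ∈ J'.over Y U) :
    exSieve A n s ∈ J'.over Y U := by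
  have : Mono η := HomologicalComplex.mono_of_mono_f η inferInstance
  let S : ShortComplex (CochainComplex (Sheaf (J.over Y) AddCommGrpCat.{u}) ℕ) :=
    ShortComplex.mk η (cokernel.π η) (cokernel.condition η)
  have : CategoryWithHomology (CochainComplex (Sheaf (J.over Y) AddCommGrpCat.{u}) ℕ) :=
    categoryWithHomology_of_abelian (C := CochainComplex (Sheaf (J.over Y) AddCommGrpCat.{u}) ℕ)
  have hS : S.ShortExact :=
    { exact := ShortComplex.exact_of_g_is_cokernel _ (cokernelIsCokernel _), mono_f := ‹Mono η›,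
      epi_g := inferInstanceAs (Epi (cokernel.π η)) }
  have hSi : ∀ i, (S.map (HomologicalComplex.eval _ _ i)).ShortExact := fun i => hS.map_of_exact _
  have hinjA : ∀ i, Injective (S.map (HomologicalComplex.eval _ _ i)).X₁ := fun i =>
    inferInstanceAs (Injective (A.X i))
  let sp := fun i => (hSi i).splittingOfInjective
  have : ∀ i, Injective (S.X₃.X i) := fun i => ⟨fun {X Y} g φ _ => by
    obtain ⟨ψ, hψ⟩ := Injective.factors (J := K.X i) (g ≫ (sp i).s) φ
    exact ⟨ψ ≫ (cokernel.π η).f i, by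
      rw [reassoc_of% hψ]
      exact (congrArg (g ≫ ·) (sp i).s_g).trans (Category.comp_id _)⟩⟩
  -- cohomology sheaves of the quotient
  have hA' : ∀ i, T.InA Y (A.homology i) := fun i => by
    cases i with
    | zero => exact inA_of_iso (cohIso₀ A).symm hA
    | succ j => exact inA_zero (((HomologicalComplex.exactAt_iff_isZero_homology _ _).1 (hI j)))
  have hπ : ∀ i, Epi (homologyMap S.g i) := fun i =>
    (hS.homology_exact₃ i (i + 1) rfl).epi_f
      (((HomologicalComplex.exactAt_iff_isZero_homology _ _).1 (hI i)).eq_of_tgt _ _)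
  have hQ : ∀ i, i ≤ n → T.InA Y (S.X₃.homology i) := fun i hi =>
    inA_of_iso ((cokernelIsCokernel _).coconePointUniqueUpToIso
      (haveI := hπ i; (hS.homology_exact₂ i).gIsCokernel))
      (inA_cokernel (homologyMap η i) (hA' i) (hK i hi).1)
  have : Epi ((T.e Y).map (homologyMap S.g n)) :=
    @epi_e_map _ _ _ _ T Y _ _ (homologyMap S.g n) (hπ n) (hK n le_rfl).1 (hQ n le_rfl)
  have := (hK n le_rfl).2
  refine exSieve_mem_of_local A n s hη fun V g hg => ?_
  obtain ⟨a, ha⟩ := hg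
  let s' := rs (A.X (n + 1)) g s
  have ha' : (K.d n (n + 1)).hom.app (op V) a = (η.f (n + 1)).hom.app (op V) s' := by
    rw [ha, rs_app]
  let Q := S.X₃
  have hgη : ∀ (i : ℕ) (Z : Over Y) (x : (A.X i).obj.obj (op Z)),
      (S.g.f i).hom.app (op Z) ((η.f i).hom.app (op Z) x) = 0 := fun i Z x =>
    ConcreteCategory.congr_hom (congrArg (fun φ => φ.hom.app (op Z))
      (S.map (HomologicalComplex.eval _ _ i)).zero) x
  have hgd : ∀ (i j : ℕ) (Z : Over Y) (x : (K.X i).obj.obj (op Z)),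
      (Q.d i j).hom.app (op Z) ((S.g.f i).hom.app (op Z) x) =
        (S.g.f j).hom.app (op Z) ((K.d i j).hom.app (op Z) x) := fun i j Z x => by
    rw [← app_comp, ← app_comp]
    exact congrArg (fun φ => φ.hom.app (op Z) x) (S.g.comm i j)
  have hηd : ∀ (i j : ℕ) (Z : Over Y) (x : (A.X i).obj.obj (op Z)),
      (K.d i j).hom.app (op Z) ((η.f i).hom.app (op Z) x) =
        (η.f j).hom.app (op Z) ((A.d i j).hom.app (op Z) x) := fun i j Z x => by
    rw [← app_comp, ← app_comp, η.comm i j]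
  let q := (S.g.f n).hom.app (op V) a
  have hq : (Q.d n (n + 1)).hom.app (op V) q = 0 := by rw [hgd, ha', hgη]
  obtain ⟨qc, hqc⟩ := exists_of_exact_mono (ShortComplex.mk (Q.iCycles n) (Q.d n (n + 1)) (Q.iCycles_d _ _))
    (ShortComplex.exact_of_f_is_kernel _ (Q.cyclesIsKernel n (n + 1) (by simp))) V q hq
  -- lift the class
  let φ := K.homologyπ n ≫ homologyMap S.g n
  have : Epi ((T.e Y).map φ) := by rw [Functor.map_comp]; infer_instance
  obtain ⟨R₁, hR₁, hR₁'⟩ := exists_local_of_epi ((T.e Y).map φ) V ((Q.homologyπ n).hom.app (op V) qc)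
  refine exSieve_mem_of_local A n s' hR₁ fun W g₁ hg₁ => ?_
  obtain ⟨kc, hkc⟩ := hR₁' g₁ hg₁
  let k := (K.iCycles n).hom.app (op W) kc
  have hk : (K.d n (n + 1)).hom.app (op W) k = 0 :=
    ConcreteCategory.congr_hom (congrArg (fun ψ => ψ.hom.app (op W)) (K.iCycles_d n (n + 1))) kc
  let zc := (cyclesMap S.g n).hom.app (op W) kc - rs (Q.cycles n) g₁ qc
  have hzc : (Q.homologyπ n).hom.app (op W) zc = 0 := by
    rw [map_sub, sub_eq_zero, ← rs_app]
    exact (ConcreteCategory.congr_hom (congrArg (fun ψ => ψ.hom.app (op W)) (homologyπ_naturality S.g n)) kc).symm.trans hkc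
  have hz : (Q.iCycles n).hom.app (op W) zc =
      (S.g.f n).hom.app (op W) k - (S.g.f n).hom.app (op W) (rs (K.X n) g₁ a) := by
    rw [map_sub, ← rs_app]
    exact congrArg₂ (· - ·) (ConcreteCategory.congr_hom (congrArg (fun ψ => ψ.hom.app (op W)) (cyclesMap_i S.g n)) kc)
      ((congrArg (rs (Q.X n) g₁) hqc).trans (rs_app (S.g.f n) g₁ a))
  -- it suffices to correct `k` by a boundary, locally
  have key : ∀ ⦃Z : Over Y⦄ (g₂ : Z ⟶ W) (c : (K.X n).obj.obj (op Z)),
      (K.d n (n + 1)).hom.app (op Z) c = 0 →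
      (S.g.f n).hom.app (op Z) c = (S.g.f n).hom.app (op Z) (rs (K.X n) (g₂ ≫ g₁) a) →
      exSieve A n (rs (A.X (n + 1)) g₁ s') g₂ := fun Z g₂ c hc hc' => by
    have h0 : (S.g.f n).hom.app (op Z) (rs (K.X n) (g₂ ≫ g₁) a - c) = 0 := by rw [map_sub, hc', sub_self]
    have : Mono (S.map (HomologicalComplex.eval _ _ n)).f := (hSi n).mono_f
    obtain ⟨b, hb⟩ := exists_of_exact_mono (S.map (HomologicalComplex.eval _ _ n)) (hSi n).exact Z _ h0
    refine ⟨b, app_injective (η.f (n + 1)) Z ?_⟩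
    rw [← hηd n (n + 1) Z b, ← rs_app, ← rs_app, ← ha', ← rs_comp, rs_app]
    refine (congrArg ((K.d n (n + 1)).hom.app (op Z)) hb).trans ?_
    rw [map_sub, hc, sub_zero]
  cases n with
  | zero =>
    have := isIso_homologyπ₀ Q
    have h0 : zc = 0 := app_injective (Q.homologyπ 0) W (hzc.trans (map_zero _).symm)
    refine (J'.over Y).superset_covering ?_ ((J'.over Y).top_mem W)
    intro Z g₂ _
    refine key g₂ (rs (K.X 0) g₂ k) (by rw [← rs_app, hk]; exact map_zero _) ?_
    rw [h0, map_zero] at hz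
    rw [← rs_app, rs_comp, ← rs_app]
    exact congrArg _ (sub_eq_zero.1 hz.symm)
  | succ j =>
    have hex : ∃ R ∈ J.over Y W, ∀ ⦃Z : Over Y⦄ (g₂ : Z ⟶ W), R g₂ →
        ∃ c, (Q.d j (j + 1)).hom.app (op Z) c =
          rs (Q.X (j + 1)) g₂ ((Q.iCycles (j + 1)).hom.app (op W) zc) := by
      obtain ⟨R, hR, hR'⟩ := exact_local_lift
        (ShortComplex.mk (Q.toCycles j (j + 1)) (Q.homologyπ (j + 1)) (Q.toCycles_comp_homologyπ _ _))
        (ShortComplex.exact_of_g_is_cokernel _ (Q.homologyIsCokernel j (j + 1) (by simp))) W zc hzc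
      refine ⟨R, hR, fun Z g₂ hg₂ => ?_⟩
      obtain ⟨c, hc⟩ := hR' g₂ hg₂
      refine ⟨c, ?_⟩
      rw [rs_app, ← hc, ← app_comp, Q.toCycles_i]
    obtain ⟨R, hR, hR'⟩ := exists_J'_lift hV Q j (by omega) (fun i hi => hQ i (by omega)) _ hex
    refine (J'.over Y).superset_covering ?_ hR
    intro Z g₂ hg₂
    obtain ⟨c, hc⟩ := hR' g₂ hg₂
    let a' := (sp j).s.hom.app (op Z) c
    have ha'' : (S.g.f j).hom.app (op Z) a' = c :=
      ConcreteCategory.congr_hom (congrArg (fun ψ => ψ.hom.app (op Z)) (sp j).s_g) c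
    refine key g₂ (rs (K.X (j + 1)) g₂ k - (K.d j (j + 1)).hom.app (op Z) a') ?_ ?_
    · have hdd : (K.d (j + 1) (j + 1 + 1)).hom.app (op Z) ((K.d j (j + 1)).hom.app (op Z) a') = 0 :=
        ConcreteCategory.congr_hom (congrArg (fun ψ => ψ.hom.app (op Z)) (K.d_comp_d j (j + 1) (j + 1 + 1))) a'
      rw [map_sub, ← rs_app, hk, hdd, sub_zero]
      exact map_zero _
    · have e1 : (S.g.f (j + 1)).hom.app (op Z) ((K.d j (j + 1)).hom.app (op Z) a') =
          rs (Q.X (j + 1)) g₂ ((S.g.f (j + 1)).hom.app (op W) k -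
            (S.g.f (j + 1)).hom.app (op W) (rs (K.X (j + 1)) g₁ a)) :=
        (hgd j (j + 1) Z a').symm.trans ((congrArg _ ha'').trans (hc.trans (congrArg _ hz)))
      refine (map_sub _ _ _).trans ((congrArg₂ (· - ·) (rs_app (S.g.f (j + 1)) g₂ k).symm e1).trans ?_)
      refine Eq.trans ?_ ((rs_app (S.g.f (j + 1)) g₂ _).trans (congrArg _ (rs_comp (K.X (j + 1)) g₁ g₂ a).symm))
      exact (congrArg _ (map_sub _ _ _)).trans (sub_sub_cancel _ _)

end Groth.Agent.TwoTop
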