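import Groth.Prelude.Def_SiteCmp
import Groth.Agent.SSExist.OverKInj
import Mathlib.CategoryTheory.Preadditive.Injective.Preserves
import Mathlib.CategoryTheory.Sites.Abelian

/-!
# Two topologies on a category: the direct image `ε_*` and pullback functors of slices
-/

set_option autoImplicit false

universe u

open CategoryTheory CategoryTheory.Limits Opposite

namespace Groth.Agent.TwoTop

variable {C : Type u} [SmallCategory C]

section Eps

variable {J J' : GrothendieckTopology C} (h : J' ≤ J)

/-- `ε_*` on abelian sheaves. -/
abbrev eps : Sheaf J AddCommGrpCat.{u} ⥤ Sheaf J' AddCommGrpCat.{u} := SiteCmp.epsSh h AddCommGrpCat.{u}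

variable (J J') in
/-- `ε^{-1}` as sheafification. -/
noncomputable abbrev epsL : Sheaf J' AddCommGrpCat.{u} ⥤ Sheaf J AddCommGrpCat.{u} :=
  sheafToPresheaf J' AddCommGrpCat.{u} ⋙ presheafToSheaf J AddCommGrpCat.{u}

/-- The adjunction `ε^{-1} ⊣ ε_*`. -/
noncomputable def epsAdj : epsL J J' ⊣ eps h :=
  Adjunction.restrictFullyFaithful (sheafificationAdjunction J AddCommGrpCat.{u})
    (fullyFaithfulSheafToPresheaf J' AddCommGrpCat.{u}) (Functor.FullyFaithful.id _) (Iso.refl _) (Iso.refl _)

lemma eps_fullyFaithful : (eps h).Full ∧ (eps h).Faithful :=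
  ⟨⟨fun {_ _} α => ⟨⟨α.hom⟩, rfl⟩⟩, ⟨fun {_ _ α β} e => ObjectProperty.hom_ext _
    (show α.hom = β.hom from congrArg (sheafToPresheaf J' AddCommGrpCat.{u}).map e)⟩⟩

instance eps_additive : (eps h).Additive where

instance eps_full : (eps h).Full := (eps_fullyFaithful h).1

instance eps_faithful : (eps h).Faithful := (eps_fullyFaithful h).2

lemma isIso_counit : IsIso (epsAdj h).counit := inferInstance

lemma eps_preservesFiniteLimits : PreservesFiniteLimits (eps h) :=
  have : PreservesLimitsOfSize.{0, 0} (eps h) := (epsAdj h).rightAdjoint_preservesLimits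
  PreservesLimitsOfSize.preservesFiniteLimits _

lemma eps_preservesInjectives : (eps h).PreservesInjectiveObjects := by
  have : PreservesFiniteLimits (epsL J J') := comp_preservesFiniteLimits _ _
  exact Functor.preservesInjectiveObjects_of_adjunction_of_preservesMonomorphisms (epsAdj h)

/-- A section of a `J`-sheaf, read in a `J'`-sheaf isomorphic to its image, vanishing `J`-locally vanishes. -/
lemma eq_zero_of_locally {R : Sheaf J' AddCommGrpCat.{u}} (hR : Presheaf.IsSheaf J R.obj) {U : C}
    (S : Sieve U) (hS : S ∈ J U) (σ : R.obj.obj (op U))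
    (hσ : ∀ ⦃V : C⦄ (g : V ⟶ U), S g → R.obj.map g.op σ = 0) : σ = 0 := by
  refine (((isSheaf_iff_isSheaf_of_type J _).1
    ((Presheaf.isSheaf_iff_isSheaf_forget J R.obj (forget _)).1 hR)).isSeparated S hS).ext fun V g hg => ?_
  exact (hσ g hg).trans (map_zero (R.obj.map g.op).hom).symm

/-- A `J'`-sheaf satisfying the sheaf condition for `J` is in the image of `ε_*`. -/
lemma isIso_unit_of_isSheaf (R : Sheaf J' AddCommGrpCat.{u}) (hR : Presheaf.IsSheaf J R.obj) :
    IsIso ((epsAdj h).unit.app R) := by
  exact (epsAdj h).isIso_unit_app_of_iso (X := ⟨R.obj, hR⟩) (Y := R)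
    { hom := ⟨𝟙 _⟩, inv := ⟨𝟙 _⟩ }

end Eps

section Pullback

variable (J : GrothendieckTopology C) {X Y : C} (f : X ⟶ Y)

/-- Restriction along `f`. -/
noncomputable abbrev res : Sheaf (J.over Y) AddCommGrpCat.{u} ⥤ Sheaf (J.over X) AddCommGrpCat.{u} :=
  CohSite.push (J.over Y) (J.over X) (Over.map f)

instance res_additive : (res J f).Additive where

/-- The equivalence of the slice of a slice with the slice, compatible with `Over.map`. -/
lemma injective_res (I : Sheaf (J.over Y) AddCommGrpCat.{u}) [Injective I] :
    Injective ((res J f).obj I) := by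
  let a : Over Y := Over.mk f
  have h1 := Groth.Agent.SSExist.injective_restrictOver (J.over Y) a I
  let L := CohSite.push ((J.over Y).over a) (J.over a.left) a.iteratedSliceBackward
  let R := CohSite.push (J.over a.left) ((J.over Y).over a) a.iteratedSliceForward
  let adj : R ⊣ L := a.iteratedSliceEquiv.toAdjunction.sheafPushforwardContinuous _ _
  have : PreservesFiniteLimits R := by
    have : a.iteratedSliceEquiv.symm.functor.IsContinuous (J.over a.left) ((J.over Y).over a) :=
      inferInstanceAs (a.iteratedSliceBackward.IsContinuous (J.over a.left) ((J.over Y).over a))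
    have : a.iteratedSliceEquiv.symm.inverse.IsContinuous ((J.over Y).over a) (J.over a.left) :=
      inferInstanceAs (a.iteratedSliceForward.IsContinuous ((J.over Y).over a) (J.over a.left))
    have : PreservesLimitsOfSize.{0, 0} R :=
      (a.iteratedSliceEquiv.symm.toAdjunction.sheafPushforwardContinuous
        (E := AddCommGrpCat.{u}) _ _).rightAdjoint_preservesLimits
    exact PreservesLimitsOfSize.preservesFiniteLimits _
  have h2 : L.PreservesInjectiveObjects :=
    Functor.preservesInjectiveObjects_of_adjunction_of_preservesMonomorphisms adj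
  exact L.injective_obj ((CohSite.push (J.over Y) ((J.over Y).over a) (Over.forget a)).obj I)

variable [HasPullbacksAlong f]

lemma pullback_isContinuous : (Over.pullback f).IsContinuous (J.over Y) (J.over X) :=
  (Over.mapPullbackAdj f).isContinuous_of_isCocontinuous _ _

/-- Direct image along `f`, as composition with pullback. -/
noncomputable abbrev dir : Sheaf (J.over X) AddCommGrpCat.{u} ⥤ Sheaf (J.over Y) AddCommGrpCat.{u} :=
  haveI := pullback_isContinuous J f
  CohSite.push (J.over X) (J.over Y) (Over.pullback f)

instance dir_additive : (dir J f).Additive where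

/-- Restriction is left adjoint to the direct image. -/
noncomputable def resDirAdj : res J f ⊣ dir J f :=
  haveI := pullback_isContinuous J f
  (Over.mapPullbackAdj f).sheafPushforwardContinuous (J.over X) (J.over Y)

/-- The direct image is the one of the prelude. -/
noncomputable def dirIso :
    (Over.map f).sheafPushforwardCocontinuous AddCommGrpCat.{u} (J.over X) (J.over Y) ≅ dir J f :=
  ((Over.map f).sheafAdjunctionCocontinuous AddCommGrpCat.{u} (J.over X) (J.over Y)).rightAdjointUniq (resDirAdj J f)

lemma dir_preservesFiniteLimits : PreservesFiniteLimits (dir J f) :=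
  have : PreservesLimitsOfSize.{0, 0} (dir J f) := (resDirAdj J f).rightAdjoint_preservesLimits
  PreservesLimitsOfSize.preservesFiniteLimits _

lemma res_preservesFiniteColimits : PreservesFiniteColimits (res J f) :=
  have : PreservesColimitsOfSize.{0, 0} (res J f) := (resDirAdj J f).leftAdjoint_preservesColimits
  PreservesColimitsOfSize.preservesFiniteColimits _

omit [HasPullbacksAlong f] in
lemma res_preservesFiniteLimits : PreservesFiniteLimits (res J f) := by
  have : PreservesFiniteLimits (res J f ⋙ sheafToPresheaf (J.over X) AddCommGrpCat.{u}) :=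
    inferInstanceAs (PreservesFiniteLimits (sheafToPresheaf (J.over Y) AddCommGrpCat.{u} ⋙
      (Functor.whiskeringLeft _ _ _).obj (Over.map f).op))
  exact preservesFiniteLimits_of_reflects_of_preserves (res J f) (sheafToPresheaf (J.over X) AddCommGrpCat.{u})

lemma dir_preservesInjectives : (dir J f).PreservesInjectiveObjects := by
  have := res_preservesFiniteLimits J f
  exact Functor.preservesInjectiveObjects_of_adjunction_of_preservesMonomorphisms (resDirAdj J f)

end Pullback

end Groth.Agent.TwoTop
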