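import Groth.Agent.TwoTop.Partial
import Groth.Agent.TwoTop.Slice
import Groth.Agent.TwoTop.Sect
import Groth.Prelude.Def_WeakSerre
import Mathlib.CategoryTheory.Abelian.RightDerived
import Mathlib.CategoryTheory.Limits.Preserves.Shapes.Kernels

/-!
# Two topologies: the setting and the classes `A_X`
-/

set_option autoImplicit false

universe u

open CategoryTheory CategoryTheory.Limits Opposite

namespace Groth.Agent.TwoTop

variable {C : Type u} [SmallCategory C]

/-- The standing hypotheses. -/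
structure Setting (J J' : GrothendieckTopology C) : Type (u + 1) where
  le : J' ≤ J
  P : MorphismProperty C
  A' : ∀ X : C, ObjectProperty (Sheaf (J'.over X) AddCommGrpCat.{u})
  weak : ∀ X : C, WSerre.IsWeakSerre (A' X)
  h1 : ∀ ⦃X Y : C⦄ (f : X ⟶ Y), P f → ∀ ⦃Y' : C⦄ (g : Y' ⟶ Y),
    ∃ (W : C) (p : W ⟶ Y') (q : W ⟶ X), IsPullback p q g f ∧ P p
  h2 : ∀ ⦃X Y : C⦄ (f : X ⟶ Y) (F' : Sheaf (J'.over Y) AddCommGrpCat.{u}), A' Y F' →
    A' X ((CohSite.push (J'.over Y) (J'.over X) (Over.map f)).obj F')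
  h3 : ∀ (X : C) (F' : Sheaf (J'.over X) AddCommGrpCat.{u}), A' X F' → Presheaf.IsSheaf (J.over X) F'.obj
  h4 : ∀ ⦃X Y : C⦄ (f : X ⟶ Y)
    [((Over.map f).sheafPushforwardCocontinuous AddCommGrpCat.{u} (J'.over X) (J'.over Y)).Additive],
    P f → ∀ (F' : Sheaf (J'.over X) AddCommGrpCat.{u}), A' X F' → ∀ i : ℕ,
      A' Y ((((Over.map f).sheafPushforwardCocontinuous AddCommGrpCat.{u} (J'.over X) (J'.over Y)).rightDerived i).obj F')
  h5 : ∀ (U : C) (S : Sieve U), S ∈ J U → ∃ (ι : Type u) (V : ι → C) (v : ∀ j, V j ⟶ U),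
    Sieve.ofArrows V v ∈ J' U ∧ ∀ j, ∃ (W : C) (w : W ⟶ V j), P w ∧
      Sieve.ofArrows (fun _ : PUnit.{u + 1} => W) (fun _ => w) ∈ J (V j) ∧
      ∃ (κ : Type u) (Wk : κ → C) (wk : ∀ k, Wk k ⟶ W), Sieve.ofArrows Wk wk ∈ J' W ∧
        ∀ k, S.arrows (wk k ≫ w ≫ v j)

variable {J J' : GrothendieckTopology C} (T : Setting J J')

instance (X : C) : WSerre.IsWeakSerre (T.A' X) := T.weak X

/-- `ε_{X,*}`. -/
abbrev Setting.e (X : C) : Sheaf (J.over X) AddCommGrpCat.{u} ⥤ Sheaf (J'.over X) AddCommGrpCat.{u} :=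
  eps (SiteCmp.over_le T.le X)

instance (X : C) : PreservesFiniteLimits (T.e X) := eps_preservesFiniteLimits _

instance (X : C) : (T.e X).PreservesInjectiveObjects := eps_preservesInjectives _

/-- The class `A_X`. -/
def Setting.InA (X : C) : ObjectProperty (Sheaf (J.over X) AddCommGrpCat.{u}) :=
  (T.A' X).inverseImage (T.e X)

/-- The statement `(V_n)`. -/
def Setting.V (n : ℕ) : Prop :=
  ∀ (Z : C) (F : Sheaf (J.over Z) AddCommGrpCat.{u}), T.InA Z F →
    ∀ i, i < n → IsZero (((T.e Z).rightDerived (i + 1)).obj F)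

variable {T} {X : C}

lemma inA_of_iso {F G : Sheaf (J.over X) AddCommGrpCat.{u}} (i : F ≅ G) (h : T.InA X F) : T.InA X G :=
  (T.A' X).prop_of_iso ((T.e X).mapIso i) h

/-- A cokernel in `A'_X` is the cokernel in `A_X`. -/
lemma trick {F G : Sheaf (J.over X) AddCommGrpCat.{u}} (a : F ⟶ G)
    (hQ : T.A' X (cokernel ((T.e X).map a))) :
    T.InA X (cokernel a) ∧ IsIso (cokernelComparison a (T.e X)) ∧ Epi ((T.e X).map (cokernel.π a)) := by
  let Q' := cokernel ((T.e X).map a)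
  let Q₀ : Sheaf (J.over X) AddCommGrpCat.{u} := ⟨Q'.obj, T.h3 X Q' hQ⟩
  let i : Q' ≅ (T.e X).obj Q₀ := { hom := ⟨𝟙 _⟩, inv := ⟨𝟙 _⟩ }
  obtain ⟨p, hp⟩ := (T.e X).map_surjective (cokernel.π ((T.e X).map a) ≫ i.hom)
  have hap : a ≫ p = 0 := (T.e X).map_injective (by
    rw [Functor.map_comp, hp, cokernel.condition_assoc, zero_comp, Functor.map_zero])
  let d : cokernel a ⟶ Q₀ := cokernel.desc a p hap
  let c := cokernelComparison a (T.e X)
  have hc : cokernel.π ((T.e X).map a) ≫ c = (T.e X).map (cokernel.π a) := π_comp_cokernelComparison _ _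
  have hcd : c ≫ (T.e X).map d ≫ i.inv = 𝟙 _ := by
    rw [← cancel_epi (cokernel.π ((T.e X).map a)), reassoc_of% hc, ← Functor.map_comp_assoc,
      cokernel.π_desc, hp, Category.comp_id, Category.assoc, i.hom_inv_id, Category.comp_id]
  have hdc : ((T.e X).map d ≫ i.inv) ≫ c = 𝟙 _ := by
    obtain ⟨c₀, hc₀⟩ := (T.e X).map_surjective (i.inv ≫ c)
    have hpc : p ≫ c₀ = cokernel.π a := (T.e X).map_injective (by
      rw [Functor.map_comp, hp, hc₀, Category.assoc, i.hom_inv_id_assoc, hc])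
    have hdc₀ : d ≫ c₀ = 𝟙 _ := by
      rw [← cancel_epi (cokernel.π a), cokernel.π_desc_assoc, hpc, Category.comp_id]
    rw [Category.assoc, ← hc₀, ← Functor.map_comp, hdc₀, CategoryTheory.Functor.map_id]
  have hiso : IsIso c := ⟨(T.e X).map d ≫ i.inv, hcd, hdc⟩
  refine ⟨(T.A' X).prop_of_iso (@asIso _ _ _ _ c hiso) hQ, hiso, ?_⟩
  rw [← hc]
  exact epi_comp' inferInstance (IsIso.epi_of_iso c)

lemma inA_kernel {F G : Sheaf (J.over X) AddCommGrpCat.{u}} (a : F ⟶ G) (hF : T.InA X F) (hG : T.InA X G) :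
    T.InA X (kernel a) :=
  (T.A' X).prop_of_iso (PreservesKernel.iso (T.e X) a).symm
    ((T.A' X).prop_of_isLimit_kernelFork (limit.isLimit (parallelPair ((T.e X).map a) 0)) hF hG)

lemma trick_of_inA {F G : Sheaf (J.over X) AddCommGrpCat.{u}} (a : F ⟶ G) (hF : T.InA X F)
    (hG : T.InA X G) :
    T.InA X (cokernel a) ∧ IsIso (cokernelComparison a (T.e X)) ∧ Epi ((T.e X).map (cokernel.π a)) :=
  trick a ((T.A' X).prop_of_isColimit_cokernelCofork (colimit.isColimit (parallelPair ((T.e X).map a) 0)) hF hG)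

lemma inA_cokernel {F G : Sheaf (J.over X) AddCommGrpCat.{u}} (a : F ⟶ G) (hF : T.InA X F)
    (hG : T.InA X G) : T.InA X (cokernel a) :=
  (trick_of_inA a hF hG).1

lemma epi_e_map {F G : Sheaf (J.over X) AddCommGrpCat.{u}} (a : F ⟶ G) [Epi a] (hF : T.InA X F)
    (hG : T.InA X G) : Epi ((T.e X).map a) := by
  obtain ⟨-, hi, -⟩ := trick_of_inA a hF hG
  have h : IsZero ((T.e X).obj (cokernel a)) := (T.e X).map_isZero (isZero_cokernel_of_epi a)
  exact Abelian.epi_of_cokernel_π_eq_zero _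
    ((h.of_iso (@asIso _ _ _ _ (cokernelComparison a (T.e X)) hi)).eq_of_tgt _ _)

lemma inA_zero {F : Sheaf (J.over X) AddCommGrpCat.{u}} (h : IsZero F) : T.InA X F := by
  obtain ⟨Z, hZ, hPZ⟩ := (T.A' X).exists_prop_of_containsZero
  exact (T.A' X).prop_of_iso (hZ.iso ((T.e X).map_isZero h)) hPZ

lemma inA_res {Y : C} (f : X ⟶ Y) {F : Sheaf (J.over Y) AddCommGrpCat.{u}} (h : T.InA Y F) :
    T.InA X ((res J f).obj F) :=
  T.h2 f _ h

section Direct

variable {Y : C} (f : X ⟶ Y) (hf : T.P f)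

include hf in
lemma hasPullbacksAlong : HasPullbacksAlong f := fun {Y'} g => by
  obtain ⟨W, p, q, hW, -⟩ := T.h1 f hf g
  exact hW.hasPullback

include hf in
lemma P_pullback [HasPullbacksAlong f] {Y' : C} (g : Y' ⟶ Y) :
    ∃ (W : C) (p : W ⟶ Y') (q : W ⟶ X), IsPullback p q g f ∧ T.P p :=
  T.h1 f hf g

include hf in
lemma inA'_derived [HasPullbacksAlong f] {F' : Sheaf (J'.over X) AddCommGrpCat.{u}} (hF : T.A' X F') (i : ℕ) :
    T.A' Y (((dir J' f).rightDerived i).obj F') := by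
  have : ((Over.map f).sheafPushforwardCocontinuous AddCommGrpCat.{u} (J'.over X) (J'.over Y)).Additive :=
    Functor.additive_of_iso (dirIso J' f).symm
  let α := dirIso J' f
  let i' : (((Over.map f).sheafPushforwardCocontinuous AddCommGrpCat.{u} (J'.over X) (J'.over Y)).rightDerived i).obj F' ≅
      ((dir J' f).rightDerived i).obj F' :=
    { hom := (NatTrans.rightDerived α.hom i).app F'
      inv := (NatTrans.rightDerived α.inv i).app F'
      hom_inv_id := by rw [← NatTrans.comp_app, ← NatTrans.rightDerived_comp, α.hom_inv_id,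
        NatTrans.rightDerived_id]; rfl
      inv_hom_id := by rw [← NatTrans.comp_app, ← NatTrans.rightDerived_comp, α.inv_hom_id,
        NatTrans.rightDerived_id]; rfl }
  exact (T.A' Y).prop_of_iso i' (T.h4 f hf F' hF i)

variable [HasPullbacksAlong f]

instance : PreservesFiniteLimits (dir J f) := dir_preservesFiniteLimits J f

instance : (dir J f).PreservesInjectiveObjects := dir_preservesInjectives J f

/-- `ε_*` commutes with direct images. -/
noncomputable def eDirIso : dir J f ⋙ T.e Y ≅ T.e X ⋙ dir J' f := Iso.refl _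

include hf in
lemma inA_dir {F : Sheaf (J.over X) AddCommGrpCat.{u}} (hF : T.InA X F) : T.InA Y ((dir J f).obj F) :=
  (T.A' Y).prop_of_iso (((dir J' f).rightDerivedZeroIsoSelf.app _) ≪≫ ((eDirIso (T := T) f).app F).symm)
    (inA'_derived f hf hF 0)

end Direct

end Groth.Agent.TwoTop
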