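import Groth.Agent.TwoTop.Coh
import Mathlib.Algebra.Homology.HomologySequence
import Mathlib.Algebra.Homology.HomologicalComplexAbelian

/-!
# The inductive step: descending local exactness along a covering in `P`
-/

set_option autoImplicit false

universe u

open CategoryTheory CategoryTheory.Limits Opposite HomologicalComplex

namespace Groth.Agent.TwoTop

variable {C : Type u} [SmallCategory C]

/-- The terminal object of a slice. -/
abbrev tp (Y : C) : Over Y := Over.mk (𝟙 Y)

/-- The map to the terminal object. -/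
abbrev toTop {Y : C} (Z : Over Y) : Z ⟶ tp Y := Over.homMk Z.hom

lemma toTop_unique {Y : C} {Z : Over Y} (g g' : Z ⟶ tp Y) : g = g' := by
  have h1 := Over.w g
  have h2 := Over.w g'
  dsimp at h1 h2
  rw [Category.comp_id] at h1 h2
  exact Over.OverMorphism.ext (h1.trans h2.symm)

variable {J : GrothendieckTopology C} {Y : C}

/-- A sieve generated by one covering arrow, on the slice. -/
lemma single_mem_over {X : C} (f : X ⟶ Y)
    (hcov : Sieve.ofArrows (fun _ : PUnit.{u + 1} => X) (fun _ => f) ∈ J Y) :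
    (Sieve.overEquiv (tp Y)).symm (Sieve.ofArrows (fun _ : PUnit.{u + 1} => X) (fun _ => f)) ∈
      J.over Y (tp Y) :=
  J.overEquiv_symm_mem_over _ _ hcov

lemma single_sieve_factor {X : C} (f : X ⟶ Y) {Z : Over Y} (g : Z ⟶ tp Y)
    (hg : (Sieve.overEquiv (tp Y)).symm (Sieve.ofArrows (fun _ : PUnit.{u + 1} => X) (fun _ => f)) g) :
    ∃ (_ : Z ⟶ Over.mk f), True := by
  rw [Sieve.overEquiv_symm_iff, Sieve.mem_ofArrows_iff] at hg
  obtain ⟨-, a, ha⟩ := hg
  have h := Over.w g
  dsimp at h
  rw [Category.comp_id] at h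
  exact ⟨Over.homMk a (ha.symm.trans h), trivial⟩

variable {X : C} (f : X ⟶ Y) [HasPullbacksAlong f]

/-- The unit, evaluated on sections. -/
lemma unit_apply (M : Sheaf (J.over Y) AddCommGrpCat.{u}) (Z : Over Y) (x : M.obj.obj (op Z)) :
    ((resDirAdj J f).unit.app M).hom.app (op Z) x = rs M ((Over.mapPullbackAdj f).counit.app Z) x := rfl

include f in
lemma unit_app_injective (hcov : Sieve.ofArrows (fun _ : PUnit.{u + 1} => X) (fun _ => f) ∈ J Y)
    (M : Sheaf (J.over Y) AddCommGrpCat.{u}) (Z : Over Y) :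
    Function.Injective (((resDirAdj J f).unit.app M).hom.app (op Z)) := by
  intro x y hxy
  rw [unit_apply, unit_apply] at hxy
  refine eq_of_local M (J.over Y |>.pullback_stable (toTop Z) (single_mem_over f hcov)) fun V g hg => ?_
  obtain ⟨u, -⟩ := single_sieve_factor f (g ≫ toTop Z) hg
  let a : (Over.map f).obj ((Over.pullback f).obj Z) ⟶ Z := (Over.mapPullbackAdj f).counit.app Z
  let l : V.left ⟶ pullback Z.hom f := pullback.lift g.left u.left (by
    have h1 := Over.w g; have h2 := Over.w u; dsimp at h1 h2; rw [h1, h2])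
  let v : V ⟶ (Over.map f).obj ((Over.pullback f).obj Z) := Over.homMk l (by
    have h2 := Over.w u
    dsimp at h2
    show l ≫ pullback.snd _ _ ≫ f = V.hom
    rw [← Category.assoc, pullback.lift_snd, h2])
  have hv : v ≫ a = g := by
    apply Over.OverMorphism.ext
    show l ≫ a.left = g.left
    simp [a, l]
    exact pullback.lift_fst _ _ _
  rw [← hv, rs_comp, rs_comp]
  exact congrArg _ hxy

variable (IY : CochainComplex (Sheaf (J.over Y) AddCommGrpCat.{u}) ℕ)

/-- The restricted complex. -/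
noncomputable abbrev resCx : CochainComplex (Sheaf (J.over X) AddCommGrpCat.{u}) ℕ :=
  ((res J f).mapHomologicalComplex (ComplexShape.up ℕ)).obj IY

/-- The unit on complexes. -/
noncomputable def etaCx : IY ⟶ dirCx f (resCx f IY) where
  f i := (resDirAdj J f).unit.app (IY.X i)
  comm' i j _ := ((resDirAdj J f).unit.naturality (IY.d i j)).symm

lemma exactAt_resCx (hI : ∀ j, IY.ExactAt (j + 1)) (j : ℕ) : (resCx f IY).ExactAt (j + 1) := by
  have := res_preservesFiniteLimits J f
  have := res_preservesFiniteColimits J f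
  exact (hI j).map (res J f)

variable {J' : GrothendieckTopology C} {T : Setting J J'} {n : ℕ} (hV : T.V n) (hf : T.P f)
  (hcov : Sieve.ofArrows (fun _ : PUnit.{u + 1} => X) (fun _ => f) ∈ J Y)
  [∀ j, Injective (IY.X j)] (hI : ∀ j, IY.ExactAt (j + 1)) (hA : T.InA Y (cyc IY 0))

instance (j : ℕ) : Injective ((resCx f IY).X j) := injective_res J f (IY.X j)

include hA in
omit [HasPullbacksAlong f] [∀ j, Injective (IY.X j)] in
lemma inA_resCx_cyc₀ : T.InA X (cyc (resCx f IY) 0) := by
  have := res_preservesFiniteLimits J f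
  obtain ⟨i⟩ := cyc_map_zero (res J f) IY
  exact inA_of_iso i.symm (inA_res f hA)

variable {m : ℕ} (s : (IY.X (m + 1)).obj.obj (op (tp Y)))

/-- The section on every object of the slice. -/
abbrev sY (Z : Over Y) : (IY.X (m + 1)).obj.obj (op Z) := rs (IY.X (m + 1)) (toTop Z) s

omit [HasPullbacksAlong f] [∀ j, Injective (IY.X j)] in
lemma rs_sY {Z Z' : Over Y} (g : Z' ⟶ Z) : rs (IY.X (m + 1)) g (sY IY s Z) = sY IY s Z' := by
  rw [sY, sY, ← rs_comp, toTop_unique (g ≫ toTop Z) (toTop Z')]

omit [HasPullbacksAlong f] [∀ j, Injective (IY.X j)] in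
lemma d_sY (hs : (IY.d (m + 1) (m + 1 + 1)).hom.app (op (tp Y)) s = 0) (Z : Over Y) :
    (IY.d (m + 1) (m + 1 + 1)).hom.app (op Z) (sY IY s Z) = 0 := by
  rw [sY, ← rs_app, hs]
  exact map_zero _

omit [HasPullbacksAlong f] [∀ j, Injective (IY.X j)] in
lemma rs_d {Z Z' : Over Y} (g : Z' ⟶ Z) (i j : ℕ) (x : (IY.X i).obj.obj (op Z)) :
    rs (IY.X j) g ((IY.d i j).hom.app (op Z) x) = (IY.d i j).hom.app (op Z') (rs (IY.X i) g x) :=
  rs_app _ g x

/-- `η` commutes with the differential, on sections. -/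
lemma eta_d (Z : Over Y) (i j : ℕ) (x : (IY.X i).obj.obj (op Z)) :
    ((dirCx f (resCx f IY)).d i j).hom.app (op Z) (((etaCx f IY).f i).hom.app (op Z) x) =
      ((etaCx f IY).f j).hom.app (op Z) ((IY.d i j).hom.app (op Z) x) := by
  rw [← app_comp, ← app_comp, (etaCx f IY).comm i j]

end Groth.Agent.TwoTop
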